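import Cfsg.Agent.S0205
import Cfsg.Agent.Lib.FTApps.Basic
import Cfsg.Agent.Lib.Coprime.SchurZassenhaus
import Cfsg.Agent.Lib.Solvable.Cores

/-! General lemmas on real elements, involutions and fixed points. -/

set_option autoImplicit false
set_option linter.style.haveILetI false
set_option linter.unusedSectionVars false

namespace CfsgLib.FTApps.RealGraph

open Subgroup

variable {G : Type*} [Group G]

/-- An involution, stated with products. -/
def Invol (a : G) : Prop := a * a = 1 ∧ a ≠ 1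

theorem Invol.inv {a : G} (h : Invol a) : a⁻¹ = a := inv_eq_of_mul_eq_one_right h.1

theorem Invol.orderOf {a : G} (h : Invol a) : orderOf a = 2 :=
  orderOf_eq_prime (by rw [pow_two, h.1]) h.2

theorem Invol.conj {a : G} (h : Invol a) (g : G) : Invol (g * a * g⁻¹) := by
  refine ⟨?_, fun e => h.2 ?_⟩
  · rw [show g * a * g⁻¹ * (g * a * g⁻¹) = g * (a * a) * g⁻¹ by group, h.1, mul_one, mul_inv_cancel]
  · calc a = g⁻¹ * (g * a * g⁻¹) * g := by group
      _ = 1 := by rw [e, mul_one, inv_mul_cancel]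

theorem invol_of_orderOf {a : G} (h : _root_.orderOf a = 2) : Invol a :=
  ⟨by rw [← pow_two, ← h, pow_orderOf_eq_one], fun e => by rw [e, orderOf_one] at h; omega⟩

theorem eq_one_of_odd_sq {x : G} (ho : Odd (orderOf x)) (h : x * x = 1) : x = 1 :=
  orderOf_eq_one_iff.1 (Nat.eq_one_of_dvd_coprimes (Nat.coprime_two_right.2 ho) dvd_rfl
    (orderOf_dvd_of_pow_eq_one (by rw [pow_two, h])))

theorem odd_orderOf_pow {x : G} (ho : Odd (orderOf x)) (n : ℕ) : Odd (orderOf (x ^ n)) :=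
  ho.of_dvd_nat (orderOf_dvd_of_pow_eq_one (by rw [← pow_mul, mul_comm, pow_mul, pow_orderOf_eq_one, one_pow]))

theorem real_pow {g x : G} (h : g * x * g⁻¹ = x⁻¹) (n : ℕ) : g * x ^ n * g⁻¹ = (x ^ n)⁻¹ := by
  rw [← conj_pow, h, inv_pow]

theorem conj_twice {g x : G} (h : g * x * g⁻¹ = x⁻¹) : g * x⁻¹ * g⁻¹ = x := by
  rw [← conj_inv, h, inv_inv]

variable [Finite G]

theorem exists_odd_pow (x : G) : ∃ k : ℕ, Odd (orderOf (x ^ 2 ^ k)) := by
  obtain ⟨k, m, hm, he⟩ := Nat.exists_eq_two_pow_mul_odd (orderOf_pos x).ne'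
  refine ⟨k, ?_⟩
  rw [orderOf_pow' x (by positivity), he, Nat.gcd_eq_right (Dvd.intro _ rfl),
    Nat.mul_div_cancel_left _ (by positivity)]
  exact hm

theorem exists_two_part (x : G) : ∃ m k : ℕ, Odd m ∧ (x ^ m) ^ 2 ^ k = 1 := by
  obtain ⟨k, m, hm, he⟩ := Nat.exists_eq_two_pow_mul_odd (orderOf_pos x).ne'
  exact ⟨m, k, hm, by rw [← pow_mul, mul_comm, ← he, pow_orderOf_eq_one]⟩

theorem exists_invol_pow {x : G} (h : Even (orderOf x)) : ∃ m : ℕ, Invol (x ^ m) := by
  refine ⟨orderOf x / 2, invol_of_orderOf ?_⟩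
  exact orderOf_pow_orderOf_div (orderOf_pos x).ne' h.two_dvd

theorem exists_invol_of_even {H : Subgroup G} (h : ¬ Odd (Nat.card H)) : ∃ a ∈ H, Invol a := by
  haveI : Fact (Nat.Prime 2) := ⟨Nat.prime_two⟩
  obtain ⟨a, ha⟩ := exists_prime_orderOf_dvd_card' 2 (Nat.not_odd_iff_even.1 h).two_dvd
  exact ⟨a, a.2, invol_of_orderOf (by rwa [Subgroup.orderOf_coe])⟩

theorem isPGroup_zpowers_invol {a : G} (h : Invol a) : IsPGroup 2 (zpowers a) :=
  IsPGroup.of_card (n := 1) (by rw [Nat.card_zpowers, h.orderOf, pow_one])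

/-- The product of two involutions of odd order gives a conjugating element and a swapping one. -/
theorem exists_swap {a b : G} (ha : Invol a) (hb : Invol b) (hodd : Odd (orderOf (b * a))) :
    ∃ s ∈ zpowers (b * a), s * a * s⁻¹ = b ∧ (s * a) * a * (s * a)⁻¹ = b ∧
      (s * a) * b * (s * a)⁻¹ = a := by
  obtain ⟨j, hj⟩ := hodd
  set d := b * a with hd
  set s := d ^ (j + 1) with hs
  have had : a * d * a⁻¹ = d⁻¹ := by rw [hd, ha.inv, mul_inv_rev, ha.inv, hb.inv, mul_assoc, mul_assoc, ha.1, mul_one]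
  have hss : s * s = d := by
    rw [hs, ← pow_add, show j + 1 + (j + 1) = 2 * j + 1 + 1 by ring, ← hj, pow_succ,
      pow_orderOf_eq_one, one_mul]
  have has : a * s * a⁻¹ = s⁻¹ := real_pow had _
  have h1 : s * a * s⁻¹ = b := by
    rw [← has]
    calc s * a * (a * s * a⁻¹) = s * (a * a) * s * a⁻¹ := by group
      _ = d * a⁻¹ := by rw [ha.1, mul_one, hss]
      _ = b := by rw [hd, mul_inv_cancel_right]
  have hw : s * a * (s * a) = 1 := by
    rw [show s * a * (s * a) = s * (a * s * a⁻¹) * (a * a) by group, has, ha.1, mul_one, mul_inv_cancel]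
  have h2 : s * a * a * (s * a)⁻¹ = b := by
    rw [← h1]; group
  refine ⟨s, pow_mem (mem_zpowers d) _, h1, h2, ?_⟩
  rw [← h2, show s * a * (s * a * a * (s * a)⁻¹) * (s * a)⁻¹
    = s * a * (s * a) * a * (s * a * (s * a))⁻¹ by group, hw]
  group

/-- Two involutions with product of odd order are swapped by an involution. -/
theorem exists_swap_invol {a b : G} (ha : Invol a) (hb : Invol b) (hodd : Odd (orderOf (b * a))) :
    ∃ w : G, w * w = 1 ∧ w * a * w⁻¹ = b ∧ w * b * w⁻¹ = a := by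
  obtain ⟨s, hs, -, h1, h2⟩ := exists_swap ha hb hodd
  refine ⟨s * a, ?_, h1, h2⟩
  obtain ⟨j, rfl⟩ := mem_zpowers_iff.1 hs
  have had : a * (b * a) * a⁻¹ = (b * a)⁻¹ := by
    rw [mul_inv_rev, ha.inv, hb.inv, mul_assoc, mul_assoc, ha.1, mul_one]
  rw [show (b * a) ^ j * a * ((b * a) ^ j * a) = (b * a) ^ j * (a * (b * a) ^ j * a⁻¹) * (a * a) by group,
    ha.1, mul_one, ← conj_zpow, had, inv_zpow, mul_inv_cancel]

theorem exists_fixed_of_odd {α : Type*} [Finite α] (h : Odd (Nat.card α)) {n : ℕ} (σ : Equiv.Perm α)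
    (hσ : σ ^ 2 ^ n = 1) : ∃ a, σ a = a := by
  haveI := Fintype.ofFinite α
  haveI : Fact (Nat.Prime 2) := ⟨Nat.prime_two⟩
  refine Equiv.Perm.exists_fixed_point_of_prime ?_ hσ
  rw [← Nat.card_eq_fintype_card, ← even_iff_two_dvd]
  exact Nat.not_even_iff_odd.2 h

/-- A 2-element normalising a 2-subgroup of odd index lies in it. -/
theorem mem_of_two_element {P : Subgroup G} (hP : IsPGroup 2 P) (hi : Odd P.index) {r : G}
    (hr : r ∈ normalizer (P : Set G)) (h2 : IsPGroup 2 (zpowers r)) : r ∈ P := by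
  haveI : Fact (Nat.Prime 2) := ⟨Nat.prime_two⟩
  have hnd : ¬ 2 ∣ P.index := by rw [← even_iff_two_dvd]; exact Nat.not_even_iff_odd.2 hi
  have hsup : IsPGroup 2 ↥(zpowers r ⊔ P) :=
    h2.to_sup_of_normal_right' hP (zpowers_le.2 hr)
  have := (hP.toSylow hnd).is_maximal' hsup le_sup_right
  exact this.le (mem_sup_left (mem_zpowers r))

theorem solvable_of_odd {X : Type*} [Group X] [Finite X] (h : Odd (Nat.card X)) : Group.IsSolvable X :=
  Cfsg.Agent.S0205.result h

/-- A group with an involution central modulo a normal subgroup of odd order. -/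
theorem solvable_of_odd_normal_comm {t : G} (ht : Invol t) (N : Subgroup G) [N.Normal]
    (hN : Odd (Nat.card N)) (hcomm : ∀ g : G, t * g * t⁻¹ * g⁻¹ ∈ N)
    (hC : Group.IsSolvable (centralizer ({t} : Set G))) : Group.IsSolvable G := by
  haveI : Group.IsSolvable N := solvable_of_odd hN
  haveI := hC
  set f := QuotientGroup.mk' N
  have hsurj : Function.Surjective (f.comp (centralizer ({t} : Set G)).subtype) := by
    intro y
    obtain ⟨g, rfl⟩ := QuotientGroup.mk'_surjective N y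
    have hd : g * t * g⁻¹ * t ∈ N := by
      have := inv_mem (hcomm g)
      rwa [show (t * g * t⁻¹ * g⁻¹)⁻¹ = g * t * g⁻¹ * t⁻¹ by group, ht.inv] at this
    obtain ⟨s, hs, h1, -, -⟩ := exists_swap ht (ht.conj g)
      (hN.of_dvd_nat (by rw [← Subgroup.orderOf_mk _ hd]; exact orderOf_dvd_natCard _))
    refine ⟨⟨s⁻¹ * g, mem_centralizer_singleton_iff.2 ?_⟩, ?_⟩
    · calc s⁻¹ * g * t = s⁻¹ * (g * t * g⁻¹) * g := by group
        _ = s⁻¹ * (s * t * s⁻¹) * g := by rw [h1]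
        _ = t * (s⁻¹ * g) := by group
    · show f (s⁻¹ * g) = f g
      rw [map_mul, map_inv, show f s = 1 from (QuotientGroup.eq_one_iff s).2 (zpowers_le.2 hd hs),
        inv_one, one_mul]
  haveI : Group.IsSolvable (G ⧸ N) := Group.isSolvable_of_surjective hsurj
  exact Group.isSolvable_of_ker_le_range N.subtype f (by simp [f])

/-- Real elements lift over a kernel of odd order. -/
theorem lift_odd {H : Type*} [Group H] (f : G →* H) (hf : Function.Surjective f)
    (hk : Odd (Nat.card f.ker)) {y h : H} (hy : h * y * h⁻¹ = y⁻¹) :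
    ∃ u g : G, f u = y ∧ g * u * g⁻¹ = u⁻¹ := by
  obtain ⟨g₀, rfl⟩ := hf h
  obtain ⟨u₀, rfl⟩ := hf y
  obtain ⟨m, k, ⟨j, hj⟩, hgk⟩ := exists_two_part g₀
  set g := g₀ ^ m with hg
  have hgy : f g * f u₀ * (f g)⁻¹ = (f u₀)⁻¹ := by
    have h2 : f g₀ ^ 2 * f u₀ * (f g₀ ^ 2)⁻¹ = f u₀ := by
      calc f g₀ ^ 2 * f u₀ * (f g₀ ^ 2)⁻¹ = f g₀ * (f g₀ * f u₀ * (f g₀)⁻¹) * (f g₀)⁻¹ := by
            rw [pow_two]; group
        _ = f u₀ := by rw [hy]; exact conj_twice hy
    have hc : Commute (f g₀ ^ 2) (f u₀) := mul_inv_eq_iff_eq_mul.1 h2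
    rw [hg, map_pow, hj, pow_succ', pow_mul]
    calc f g₀ * (f g₀ ^ 2) ^ j * f u₀ * (f g₀ * (f g₀ ^ 2) ^ j)⁻¹
        = f g₀ * ((f g₀ ^ 2) ^ j * f u₀ * ((f g₀ ^ 2) ^ j)⁻¹) * (f g₀)⁻¹ := by group
      _ = (f u₀)⁻¹ := by rw [(hc.pow_left j).eq, mul_inv_cancel_right, hy]
  let F := {u : G // f u = f u₀}
  let φ : F → F := fun u => ⟨g * u.1⁻¹ * g⁻¹, by
    rw [map_mul, map_mul, map_inv, map_inv, u.2]; exact conj_twice hgy⟩
  have hbij : Function.Bijective φ := Finite.injective_iff_bijective.1 fun a b e => by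
    have e' : g * a.1⁻¹ * g⁻¹ = g * b.1⁻¹ * g⁻¹ := congrArg Subtype.val e
    exact Subtype.ext (inv_injective (mul_left_cancel (mul_right_cancel e')))
  have hit : ∀ n : ℕ, ∀ u : F, ((Equiv.ofBijective φ hbij ^ (2 * n)) u).1
      = g ^ (2 * n) * u.1 * (g ^ (2 * n))⁻¹ := by
    intro n
    induction n with
    | zero => intro u; simp
    | succ n ih =>
      intro u
      rw [show 2 * (n + 1) = 2 + 2 * n by ring, pow_add, Equiv.Perm.mul_apply, pow_two,
        Equiv.Perm.mul_apply]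
      show g * (g * ((Equiv.ofBijective φ hbij ^ (2 * n)) u).1⁻¹ * g⁻¹)⁻¹ * g⁻¹ = _
      rw [ih, pow_add, pow_two g]
      group
  obtain ⟨u, hu⟩ := exists_fixed_of_odd (α := F) (by
      have e : F ≃ f.ker :=
        { toFun := fun u => ⟨u.1 * u₀⁻¹, by rw [MonoidHom.mem_ker, map_mul, map_inv, u.2, mul_inv_cancel]⟩
          invFun := fun n => ⟨n.1 * u₀, by rw [map_mul, MonoidHom.mem_ker.1 n.2, one_mul]⟩
          left_inv := fun u => Subtype.ext (inv_mul_cancel_right _ _)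
          right_inv := fun n => Subtype.ext (mul_inv_cancel_right _ _) }
      rwa [Nat.card_congr e])
    (n := k + 1) (Equiv.ofBijective φ hbij) (Equiv.ext fun u => Subtype.ext (by
      rw [pow_succ', hit, mul_comm 2, pow_mul, hgk]
      simp))
  refine ⟨u.1, g, u.2, ?_⟩
  have e : g * u.1⁻¹ * g⁻¹ = u.1 := congrArg Subtype.val hu
  rw [← inv_inj, conj_inv, inv_inv, e]

/-- A real element of odd order lifts to one of odd order, given any real lift. -/
theorem odd_of_lift {H : Type*} [Group H] (f : G →* H) {u g : G} (ho : Odd (orderOf (f u)))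
    (hg : g * u * g⁻¹ = u⁻¹) : ∃ u' : G, f u' = f u ∧ Odd (orderOf u') ∧ g * u' * g⁻¹ = u'⁻¹ := by
  obtain ⟨k, hk⟩ := exists_odd_pow u
  obtain ⟨j, hj⟩ := exists_pow_eq_self_of_coprime
    (x := f u) (n := 2 ^ k) ((Nat.coprime_two_left.2 ho).pow_left k)
  exact ⟨(u ^ 2 ^ k) ^ j, by rw [map_pow, map_pow, hj], odd_orderOf_pow hk j,
    real_pow (real_pow hg _) _⟩

/-- Real elements of odd order lift over a normal 2-subgroup. -/
theorem lift_two (N : Subgroup G) [N.Normal] (hN : IsPGroup 2 N) {h x : G ⧸ N}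
    (ho : Odd (orderOf h)) (hx : x * h * x⁻¹ = h⁻¹) :
    ∃ u g : G, (u : G ⧸ N) = h ∧ Odd (orderOf u) ∧ g * u * g⁻¹ = u⁻¹ := by
  haveI : Fact (Nat.Prime 2) := ⟨Nat.prime_two⟩
  obtain ⟨T, rfl⟩ := QuotientGroup.mk'_surjective N x
  obtain ⟨y₀, rfl⟩ := QuotientGroup.mk'_surjective N h
  set π := QuotientGroup.mk' N
  obtain ⟨k, hk⟩ := exists_odd_pow y₀
  obtain ⟨j, hj⟩ := exists_pow_eq_self_of_coprime
    (x := π y₀) (n := 2 ^ k) ((Nat.coprime_two_left.2 ho).pow_left k)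
  set y := (y₀ ^ 2 ^ k) ^ j with hy
  have hyodd : Odd (orderOf y) := odd_orderOf_pow hk j
  have hπy : π y = π y₀ := by rw [hy, map_pow, map_pow, hj]
  have hty : π T * π y * (π T)⁻¹ = (π y)⁻¹ := by rw [hπy, hx]
  set K := zpowers y with hK
  set H := K.map (MulAut.conj T).toMonoidHom with hH
  have hnorm : ∀ L : Subgroup G, L ≤ normalizer (N : Set G) := fun L => by
    rw [normalizer_eq_top]; exact le_top
  have hsup : H ≤ N ⊔ K := by
    rw [hH, hK, MonoidHom.map_zpowers, zpowers_le]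
    have h1 : T * y * T⁻¹ * y ∈ N := by
      rw [← QuotientGroup.eq_one_iff]
      show π (T * y * T⁻¹ * y) = 1
      rw [map_mul, map_mul, map_mul, map_inv, hty, inv_mul_cancel]
    have h2 := mul_mem (mem_sup_left (T := zpowers y) h1) (mem_sup_right (S := N) (inv_mem (mem_zpowers y)))
    rw [mul_inv_cancel_right] at h2
    exact h2
  obtain ⟨a, ha⟩ := hN.exists_card_eq
  obtain ⟨n, hn, e⟩ := CfsgLib.Coprime.exists_conj_eq (N := N) (H := H) (K := K)
    (Or.inl (by haveI := hN.isNilpotent; infer_instance))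
    (hnorm H) (hnorm K) hsup (card_map_of_injective (MulAut.conj T).injective)
    (by rw [ha, hH, card_map_of_injective (MulAut.conj T).injective, hK, Nat.card_zpowers]
        exact (Nat.coprime_two_left.2 hyodd).pow_left a)
  have hmem : n * (T * y * T⁻¹) * n⁻¹ ∈ K := e ▸ mem_map_of_mem _ (mem_map_of_mem _ (mem_zpowers y))
  obtain ⟨i, hi⟩ := mem_zpowers_iff.1 hmem
  have hi' : y ^ (i + 1) ∈ N := by
    rw [← QuotientGroup.eq_one_iff]
    show π (y ^ (i + 1)) = 1
    rw [zpow_add_one, map_mul, hi, map_mul, map_mul, map_mul, map_mul, map_inv, map_inv,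
      show π n = 1 from (QuotientGroup.eq_one_iff n).2 hn, hty]
    simp
  have hi1 : y ^ (i + 1) = 1 := by
    have h1 : orderOf (y ^ (i + 1)) ∣ orderOf y :=
      orderOf_dvd_of_mem_zpowers (mem_zpowers_iff.2 ⟨i + 1, rfl⟩)
    have h2 : orderOf (y ^ (i + 1)) ∣ 2 ^ a := by
      rw [← ha, ← Subgroup.orderOf_mk _ hi']; exact orderOf_dvd_natCard _
    exact orderOf_eq_one_iff.1 (Nat.eq_one_of_dvd_coprimes
      ((Nat.coprime_two_left.2 hyodd).pow_left a) h2 h1)
  refine ⟨y, n * T, hπy, hyodd, ?_⟩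
  rw [zpow_add_one] at hi1
  calc n * T * y * (n * T)⁻¹ = n * (T * y * T⁻¹) * n⁻¹ := by group
    _ = y⁻¹ := hi.symm.trans (eq_inv_of_mul_eq_one_left hi1)

/-- A 2-group acting on a nontrivial module of exponent two fixes a nonzero functional. -/
theorem exists_invariant_functional {P : Type*} [Group P] (hP : IsPGroup 2 P)
    {X : Type*} [AddCommGroup X] [Finite X] [DistribMulAction P X] (two : ∀ v : X, v + v = 0)
    {u₀ : X} (hu₀ : u₀ ≠ 0) :
    ∃ (f : X →+ ZMod 2) (u : X), f u ≠ 0 ∧ ∀ (p : P) (w : X), f (p • w) = f w := by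
  haveI : Fact (Nat.Prime 2) := ⟨Nat.prime_two⟩
  letI : Module (ZMod 2) X := AddCommGroup.zmodModule fun v => by rw [two_nsmul, two]
  obtain ⟨l, hl⟩ : ∃ l : X →ₗ[ZMod 2] ZMod 2, l u₀ ≠ 0 := by
    by_contra hc
    push Not at hc
    exact hu₀ ((Module.forall_dual_apply_eq_zero_iff (ZMod 2) u₀).1 hc)
  haveI : Finite (X →+ ZMod 2) := DFunLike.finite _
  have hne : l.toAddMonoidHom ≠ 0 := fun e => hl (DFunLike.congr_fun e u₀)
  have hdvd : 2 ∣ Nat.card (X →+ ZMod 2) := by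
    have h2 : addOrderOf l.toAddMonoidHom = 2 := addOrderOf_eq_prime
      (AddMonoidHom.ext fun w => by
        show 2 • l w = 0
        rw [two_nsmul, CharTwo.add_self_eq_zero]) hne
    have h3 := addOrderOf_dvd_natCard l.toAddMonoidHom
    rwa [h2] at h3
  letI : MulAction P (X →+ ZMod 2) :=
    { smul := fun p f => f.comp (DistribSMul.toAddMonoidHom X p⁻¹)
      one_smul := fun f => AddMonoidHom.ext fun w => by
        show f ((1 : P)⁻¹ • w) = f w
        rw [inv_one, one_smul]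
      mul_smul := fun p q f => AddMonoidHom.ext fun w => by
        show f ((p * q)⁻¹ • w) = f (q⁻¹ • p⁻¹ • w)
        rw [mul_inv_rev, mul_smul] }
  obtain ⟨f, hf, hf0⟩ := hP.exists_fixed_point_of_prime_dvd_card_of_fixed_point (X →+ ZMod 2) hdvd
    (a := 0) (fun p => AddMonoidHom.ext fun w => rfl)
  obtain ⟨u, hu⟩ : ∃ u, f u ≠ 0 := by
    by_contra hc
    push Not at hc
    exact hf0 (AddMonoidHom.ext fun w => (hc w).symm)
  refine ⟨f, u, hu, fun p w => ?_⟩
  have : f ((p⁻¹)⁻¹ • w) = f w := DFunLike.congr_fun (hf p⁻¹) w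
  rwa [inv_inv] at this

end CfsgLib.FTApps.RealGraph
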