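import Cfsg.Agent.Lib.FTApps.RealGraph.Basic
import Cfsg.Agent.Lib.FTApps.RealTwoPart
import Cfsg.Agent.Lib.Involution.BaerSuzuki

/-! Real classes when the real class size graph is disconnected. -/

set_option autoImplicit false
set_option linter.style.haveILetI false
set_option linter.unusedSectionVars false

namespace CfsgLib.FTApps.RealGraph

open Subgroup

variable {G : Type*} [Group G]

/-- The size of the conjugacy class. -/
noncomputable def idx (y : G) : ℕ := (centralizer ({y} : Set G)).index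

variable (G) in
/-- Every real class size has all or none of its primes in `P`. -/
def Split (P : ℕ → Prop) : Prop :=
  ∀ y g : G, g * y * g⁻¹ = y⁻¹ →
    (∀ q : ℕ, q.Prime → q ∣ idx y → P q) ∨ (∀ q : ℕ, q.Prime → q ∣ idx y → ¬ P q)

/-- A noncentral element whose class size has no prime in `P`. -/
def TypeA (P : ℕ → Prop) (y : G) : Prop := idx y ≠ 1 ∧ ∀ q : ℕ, q.Prime → q ∣ idx y → ¬ P q

/-- A noncentral element whose class size has all primes in `P`. -/
def TypeB (P : ℕ → Prop) (y : G) : Prop := idx y ≠ 1 ∧ ∀ q : ℕ, q.Prime → q ∣ idx y → P q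

theorem idx_conj (g y : G) : idx (g * y * g⁻¹) = idx y := by
  have e : centralizer ({g * y * g⁻¹} : Set G) =
      (centralizer ({y} : Set G)).map (MulAut.conj g).toMonoidHom := by
    ext h
    rw [mem_centralizer_singleton_iff, mem_map]
    constructor
    · intro hh
      refine ⟨g⁻¹ * h * g, mem_centralizer_singleton_iff.2 ?_, by simp [mul_assoc]⟩
      calc g⁻¹ * h * g * y = g⁻¹ * (h * (g * y * g⁻¹)) * g := by group
        _ = g⁻¹ * (g * y * g⁻¹ * h) * g := by rw [hh]
        _ = y * (g⁻¹ * h * g) := by group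
    · rintro ⟨k, hk, rfl⟩
      show g * k * g⁻¹ * (g * y * g⁻¹) = g * y * g⁻¹ * (g * k * g⁻¹)
      calc g * k * g⁻¹ * (g * y * g⁻¹) = g * (k * y) * g⁻¹ := by group
        _ = g * (y * k) * g⁻¹ := by rw [mem_centralizer_singleton_iff.1 hk]
        _ = g * y * g⁻¹ * (g * k * g⁻¹) := by group
  rw [idx, idx, e]
  exact index_map_equiv _ (MulAut.conj g)

theorem idx_eq_one_of_comm {y : G} (h : ∀ g : G, g * y * g⁻¹ = y) : idx y = 1 := by
  rw [idx, index_eq_one, eq_top_iff]
  exact fun g _ => mem_centralizer_singleton_iff.2 (mul_inv_eq_iff_eq_mul.1 (h g))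

theorem comm_of_idx_eq_one {y : G} (h : idx y = 1) (g : G) : g * y * g⁻¹ = y := by
  rw [idx, index_eq_one] at h
  exact mul_inv_eq_iff_eq_mul.2 (mem_centralizer_singleton_iff.1 (h ▸ mem_top g))

theorem two_dvd_idx {x g : G} (hg : g * x * g⁻¹ = x⁻¹) (hx : x * x ≠ 1) : 2 ∣ idx x := by
  let E : Subgroup G :=
    { carrier := {h | h * x * h⁻¹ = x ∨ h * x * h⁻¹ = x⁻¹}
      one_mem' := Or.inl (by simp)
      mul_mem' := by
        intro a b ha hb
        show a * b * x * (a * b)⁻¹ = x ∨ a * b * x * (a * b)⁻¹ = x⁻¹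
        rw [show a * b * x * (a * b)⁻¹ = a * (b * x * b⁻¹) * a⁻¹ by group]
        rcases hb with hb | hb <;> rw [hb]
        · exact ha
        · rcases ha with ha | ha
          · exact Or.inr (by rw [← conj_inv, ha])
          · exact Or.inl (conj_twice ha)
      inv_mem' := by
        intro a ha
        show a⁻¹ * x * a⁻¹⁻¹ = x ∨ a⁻¹ * x * a⁻¹⁻¹ = x⁻¹
        rcases ha with ha | ha
        · exact Or.inl (by conv_lhs => rw [← ha]
                           group)
        · refine Or.inr ?_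
          calc a⁻¹ * x * a⁻¹⁻¹ = a⁻¹ * (a * x⁻¹ * a⁻¹) * a := by rw [conj_twice ha, inv_inv]
            _ = x⁻¹ := by group }
  have hCE : centralizer ({x} : Set G) ≤ E := fun h hh =>
    Or.inl (mul_inv_eq_iff_eq_mul.2 (mem_centralizer_singleton_iff.1 hh))
  refine dvd_trans ?_ (relIndex_dvd_index_of_le hCE)
  refine dvd_of_eq (Eq.symm (index_eq_two_iff.2 ⟨⟨g, Or.inr hg⟩, fun b => ?_⟩))
  rw [mem_subgroupOf, mem_subgroupOf, mem_centralizer_singleton_iff, mem_centralizer_singleton_iff,
    Subgroup.coe_mul]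
  have hne : x⁻¹ ≠ x := fun e => hx (inv_eq_iff_mul_eq_one.1 e)
  rcases b.2 with hb | hb
  · refine Or.inr ⟨mul_inv_eq_iff_eq_mul.1 hb, fun e => hne ?_⟩
    rw [← hg]
    have e' := mul_inv_eq_iff_eq_mul.2 e
    have hb' : b.1⁻¹ * x * b.1⁻¹⁻¹ = x := by conv_lhs => rw [← hb]
                                             group
    calc g * x * g⁻¹ = b.1⁻¹ * (b.1 * g * x * (b.1 * g)⁻¹) * b.1⁻¹⁻¹ := by group
      _ = x := by rw [e', hb']
  · refine Or.inl ⟨mul_inv_eq_iff_eq_mul.1 ?_, fun e => hne ?_⟩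
    · calc b.1 * g * x * (b.1 * g)⁻¹ = b.1 * (g * x * g⁻¹) * b.1⁻¹ := by group
        _ = x := by rw [hg]; exact conj_twice hb
    · rw [← hb]; exact mul_inv_eq_iff_eq_mul.2 e

variable [Finite G] {P : ℕ → Prop}

theorem TypeA.coprime {a b : G} (ha : TypeA P a) (hb : TypeB P b) : (idx a).Coprime (idx b) :=
  Nat.coprime_of_dvd fun q hq h1 h2 => ha.2 q hq h1 (hb.2 q hq h2)

theorem TypeA.odd (hP2 : P 2) {a : G} (ha : TypeA P a) : Odd (idx a) :=
  Nat.not_even_iff_odd.1 fun h => ha.2 2 Nat.prime_two h.two_dvd hP2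

theorem TypeA.conj {a : G} (ha : TypeA P a) (g : G) : TypeA P (g * a * g⁻¹) := by
  rw [TypeA, idx_conj]; exact ha

theorem relIndex_eq_of_coprime {C D : Subgroup G} (h : C.index.Coprime D.index) :
    D.relIndex C = D.index := by
  have hidx : (D ⊓ C).index = C.index * D.index := by
    refine le_antisymm (index_inf_le.trans (le_of_eq (mul_comm _ _))) ?_
    exact Nat.le_of_dvd (Nat.pos_of_ne_zero index_ne_zero_of_finite)
      (h.mul_dvd_of_dvd_of_dvd (index_dvd_of_le inf_le_right) (index_dvd_of_le inf_le_left))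
  have h1 := relIndex_mul_index (inf_le_right : D ⊓ C ≤ C)
  rw [inf_relIndex_right, hidx, mul_comm C.index] at h1
  exact Nat.eq_of_mul_eq_mul_right (Nat.pos_of_ne_zero index_ne_zero_of_finite) h1

/-- Subgroups of coprime index factorise the group. -/
theorem factor_subgroups {C D : Subgroup G} (h : C.index.Coprime D.index) (g : G) :
    ∃ c ∈ C, ∃ d ∈ D, g = c * d := by
  have hrel := relIndex_eq_of_coprime h
  let f : ↥C ⧸ D.subgroupOf C → G ⧸ D := Quotient.map' (fun c => (c : G)) fun x y hxy => by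
    rw [QuotientGroup.leftRel_apply] at hxy ⊢
    exact hxy
  have hfinj : Function.Injective f := by
    intro x y
    induction x using QuotientGroup.induction_on
    induction y using QuotientGroup.induction_on
    intro e
    exact QuotientGroup.eq.2 (mem_subgroupOf.2 (QuotientGroup.eq.1 e))
  have hf : Function.Surjective f :=
    ((Nat.bijective_iff_injective_and_card f).2 ⟨hfinj, hrel⟩).2
  obtain ⟨c, hc⟩ := hf (g : G ⧸ D)
  induction c using QuotientGroup.induction_on with | H c => ?_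
  exact ⟨c, c.2, (c : G)⁻¹ * g, QuotientGroup.eq.1 hc, by rw [mul_inv_cancel_left]⟩

/-- Coprime class sizes give a factorisation of the group. -/
theorem factor {a b : G} (h : (idx a).Coprime (idx b)) (g : G) :
    ∃ c d : G, Commute c a ∧ Commute d b ∧ g = c * d := by
  obtain ⟨c, hc, d, hd, e⟩ := factor_subgroups (C := centralizer ({a} : Set G))
    (D := centralizer ({b} : Set G)) h g
  exact ⟨c, d, mem_centralizer_singleton_iff.1 hc, mem_centralizer_singleton_iff.1 hd, e⟩

/-- With one class size coprime to the other, a conjugate of `a` and `b` themselves are conjugate to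
`a` and `b` simultaneously. -/
theorem factor_conj {a b : G} (h : (idx a).Coprime (idx b)) (g : G) :
    ∃ c : G, c * a * c⁻¹ = a ∧ c * b * c⁻¹ = g * b * g⁻¹ := by
  obtain ⟨c, d, hc, hd, rfl⟩ := factor h g
  refine ⟨c, by rw [hc.eq, mul_inv_cancel_right], ?_⟩
  rw [show c * d * b * (c * d)⁻¹ = c * (d * b * d⁻¹) * c⁻¹ by group, hd.eq, mul_inv_cancel_right]

theorem typeB_of_real (hP2 : P 2) (hS : Split G P) {x g : G} (ho : Odd (orderOf x)) (hx : x ≠ 1)
    (hg : g * x * g⁻¹ = x⁻¹) : TypeB P x := by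
  have h2 := two_dvd_idx hg fun e => hx (eq_one_of_odd_sq ho e)
  rcases hS x g hg with h | h
  · exact ⟨fun e => by rw [e] at h2; omega, h⟩
  · exact absurd hP2 (h 2 Nat.prime_two h2)

/-- An involution with class size free of `P` commutes with no real element of odd order. -/
theorem typeA_comm (hP2 : P 2) (hS : Split G P) {v x g : G} (hv : v * v = 1) (hA : TypeA P v)
    (ho : Odd (orderOf x)) (hg : g * x * g⁻¹ = x⁻¹) (hc : Commute x v) : x = 1 := by
  by_contra hx
  have hB := typeB_of_real hP2 hS ho hx hg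
  obtain ⟨c, d, hcx, hdv, rfl⟩ := factor (hA.coprime hB).symm g
  have hd : d * x * d⁻¹ = x⁻¹ := by
    calc d * x * d⁻¹ = c⁻¹ * (c * d * x * (c * d)⁻¹) * c := by group
      _ = c⁻¹ * x⁻¹ * c := by rw [hg]
      _ = x⁻¹ := by rw [mul_assoc, hcx.inv_right.symm.eq, inv_mul_cancel_left]
  have hreal : d * (x * v) * d⁻¹ = (x * v)⁻¹ := by
    rw [show d * (x * v) * d⁻¹ = d * x * d⁻¹ * (d * v * d⁻¹) by group, hd, hdv.eq,
      mul_inv_cancel_right, mul_inv_rev, inv_eq_of_mul_eq_one_right hv, hc.inv_left.eq]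
  have hpow : (x * v) ^ orderOf x = v := by
    obtain ⟨j, hj⟩ := ho
    rw [hc.mul_pow, pow_orderOf_eq_one, one_mul, hj, pow_succ, pow_mul, pow_two, hv, one_pow, one_mul]
  have hCv : centralizer ({x * v} : Set G) ≤ centralizer ({v} : Set G) := fun h hh => by
    rw [mem_centralizer_singleton_iff] at hh ⊢
    rw [← hpow]
    exact ((show Commute h (x * v) from hh).pow_right _).eq
  have hCx : centralizer ({x * v} : Set G) ≤ centralizer ({x} : Set G) := fun h hh => by
    have h2 := mem_centralizer_singleton_iff.1 (hCv hh)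
    rw [mem_centralizer_singleton_iff] at hh ⊢
    have h3 := (show Commute h (x * v) from hh).mul_right (show Commute h v from h2)
    rw [mul_assoc, hv, mul_one] at h3
    exact h3.eq
  obtain ⟨q, hq, hqd⟩ := Nat.exists_prime_and_dvd hA.1
  rcases hS _ _ hreal with h | h
  · exact hA.2 q hq hqd (h q hq (hqd.trans (index_dvd_of_le hCv)))
  · exact h 2 Nat.prime_two ((two_dvd_idx hg fun e => hx (eq_one_of_odd_sq ho e)).trans
      (index_dvd_of_le hCx)) hP2

theorem noReal_centralizer (hP2 : P 2) (hS : Split G P) {v : G} (hv : v * v = 1)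
    (hA : TypeA P v) (H : Subgroup G) (hH : H ≤ centralizer ({v} : Set G)) :
    RealTwoPart.NoReal ↥H := fun y g hy hg =>
  Subtype.ext (typeA_comm hP2 hS hv hA (by rw [Subgroup.orderOf_coe]; exact hy)
    (congrArg Subtype.val hg) (mem_centralizer_singleton_iff.1 (hH y.2)))

theorem solvable_of_noReal {X : Type*} [Group X] [Finite X] (h : RealTwoPart.NoReal X) :
    Group.IsSolvable X := by
  haveI : Fact (Nat.Prime 2) := ⟨Nat.prime_two⟩
  have hn := CfsgLib.Solvable.Cores.isPGroup_pCore (G := X) 2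
  haveI := hn.isNilpotent
  exact FTApps.isSolvable_of_odd_index (fun Y _ _ hY => solvable_of_odd hY) _ inferInstance
    (RealTwoPart.odd_index_pCore h)

theorem solvable_centralizer (hP2 : P 2) (hS : Split G P) {v : G} (hv : v * v = 1)
    (hA : TypeA P v) : Group.IsSolvable ↥(centralizer ({v} : Set G)) :=
  solvable_of_noReal (noReal_centralizer hP2 hS hv hA _ le_rfl)

/-- The centralizer of such an involution has a normal Sylow 2-subgroup of the whole group. -/
theorem exists_syl (hP2 : P 2) (hS : Split G P) {v : G} (hv : v * v = 1) (hA : TypeA P v) :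
    ∃ S : Subgroup G, IsPGroup 2 S ∧ Odd S.index ∧ S ≤ centralizer ({v} : Set G) ∧
      centralizer ({v} : Set G) ≤ normalizer (S : Set G) := by
  set C := centralizer ({v} : Set G) with hC
  refine ⟨(Cfsg.pCore 2 ↥C).map C.subtype, (CfsgLib.Solvable.Cores.isPGroup_pCore 2).map _, ?_,
    map_subtype_le _, ?_⟩
  · rw [index_map_subtype]
    exact (RealTwoPart.odd_index_pCore (noReal_centralizer hP2 hS hv hA C le_rfl)).mul (hA.odd hP2)
  · intro c hc
    refine CfsgLib.Coprime.mem_normalizer_of_conj_map_le ?_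
    rintro s ⟨w, hw, rfl⟩
    exact mem_map_of_mem C.subtype
      ((CfsgLib.Solvable.Cores.pCore_normal 2).conj_mem w hw ⟨c, hc⟩)

/-- An abelian normal subgroup holds the elements of odd order inverted by `t`. -/
theorem exists_abelian_normal (hP2 : P 2) (hS : Split G P) {t : G} (ht : Invol t)
    (hA : TypeA P t) : ∃ A : Subgroup G, A.Normal ∧ (∀ a ∈ A, ∀ b ∈ A, a * b = b * a) ∧
      ∀ x : G, Odd (orderOf x) → t * x * t⁻¹ = x⁻¹ → x ∈ A := by
  classical
  haveI : Fact (Nat.Prime 2) := ⟨Nat.prime_two⟩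
  set N := closure {z : G | ∃ g h : G, z = g * t * g⁻¹ * (h * t * h⁻¹)}
  haveI hNn : N.Normal := ⟨fun z hz k => by
    have hle : N ≤ N.comap (MulAut.conj k).toMonoidHom := (closure_le _).2 (by
      rintro _ ⟨g, h, rfl⟩
      refine subset_closure ⟨k * g, k * h, ?_⟩
      show k * (g * t * g⁻¹ * (h * t * h⁻¹)) * k⁻¹ = _
      group)
    exact hle hz⟩
  set A := N ⊓ centralizer (N : Set G)
  have hodd : ∀ x : G, Odd (orderOf x) → t * x * t⁻¹ = x⁻¹ → x ∈ A := by
    intro x ho htx
    by_cases hx : x = 1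
    · rw [hx]; exact one_mem _
    have hB := typeB_of_real hP2 hS ho hx htx
    have hall : ∀ g : G, (g * t * g⁻¹) * x * (g * t * g⁻¹)⁻¹ = x⁻¹ := fun g => by
      obtain ⟨c, hcx, hct⟩ := factor_conj (hA.coprime hB).symm g
      rw [← hct]
      calc c * t * c⁻¹ * x * (c * t * c⁻¹)⁻¹ = c * (t * (c⁻¹ * x * c) * t⁻¹) * c⁻¹ := by group
        _ = c * (t * x * t⁻¹) * c⁻¹ := by
          rw [show c⁻¹ * x * c = x from by nth_rw 1 [← hcx]; group]
        _ = x⁻¹ := by rw [htx, ← conj_inv, hcx]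
    refine ⟨?_, ?_⟩
    · obtain ⟨j, hj⟩ := ho
      refine subset_closure ⟨x ^ (j + 1), 1, ?_⟩
      have h1 : t * x ^ (j + 1) * t⁻¹ = (x ^ (j + 1))⁻¹ := real_pow htx _
      have h2 : x ^ (j + 1) * x ^ (j + 1) = x := by
        rw [← pow_add, show j + 1 + (j + 1) = 2 * j + 1 + 1 by ring, ← hj, pow_succ,
          pow_orderOf_eq_one, one_mul]
      rw [one_mul, inv_one, mul_one, ← h1]
      calc x = x ^ (j + 1) * x ^ (j + 1) * 1 := by rw [mul_one, h2]
        _ = x ^ (j + 1) * (t * t) * x ^ (j + 1) * (t * t) := by rw [ht.1]; group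
        _ = x ^ (j + 1) * t * (t * x ^ (j + 1) * t) * t := by group
        _ = x ^ (j + 1) * t * (t * x ^ (j + 1) * t⁻¹) * t := by rw [ht.inv]
    · refine mem_centralizer_iff.2 fun z hz => ?_
      refine (show Commute z x from ?_).eq
      have hle : N ≤ centralizer ({x} : Set G) := (closure_le _).2 (by
        rintro _ ⟨g, h, rfl⟩
        refine mem_centralizer_singleton_iff.2 (mul_inv_eq_iff_eq_mul.1 ?_)
        calc g * t * g⁻¹ * (h * t * h⁻¹) * x * (g * t * g⁻¹ * (h * t * h⁻¹))⁻¹
            = g * t * g⁻¹ * (h * t * h⁻¹ * x * (h * t * h⁻¹)⁻¹) * (g * t * g⁻¹)⁻¹ := by group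
          _ = x := by rw [hall h]; exact conj_twice (hall g))
      exact mem_centralizer_singleton_iff.1 (hle hz)
  haveI : A.Normal := normal_inf_normal N (centralizer (N : Set G))
  exact ⟨A, inferInstance, fun a ha b hb => mem_centralizer_iff.1 hb.2 a ha.1, hodd⟩

/-- Such an involution lies in a solvable normal subgroup. -/
theorem exists_solvable_normal (hP2 : P 2) (hS : Split G P) {t : G} (ht : Invol t)
    (hA : TypeA P t) : ∃ R : Subgroup G, R.Normal ∧ Group.IsSolvable R ∧ t ∈ R := by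
  classical
  haveI : Fact (Nat.Prime 2) := ⟨Nat.prime_two⟩
  obtain ⟨A, hAn, hAc, hodd⟩ := exists_abelian_normal hP2 hS ht hA
  haveI := hAn
  have hAab : Group.IsSolvable A := Group.isSolvable_of_comm fun a b =>
    Subtype.ext (hAc a a.2 b b.2)
  set q := QuotientGroup.mk' A
  refine ⟨(Cfsg.pCore 2 (G ⧸ A)).comap q, Normal.comap inferInstance q, ?_, ?_⟩
  · haveI := hAab
    haveI := (CfsgLib.Solvable.Cores.isPGroup_pCore (G := G ⧸ A) 2).isNilpotent
    let f := q.subgroupComap (Cfsg.pCore 2 (G ⧸ A))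
    refine Group.isSolvable_of_ker_le_range
      (inclusion (show A ≤ (Cfsg.pCore 2 (G ⧸ A)).comap q from fun a ha => mem_comap.2 (by
        rw [show q a = 1 from (QuotientGroup.eq_one_iff a).2 ha]
        exact one_mem _))) f (fun z hz => ?_)
    exact ⟨⟨z.1, (QuotientGroup.eq_one_iff z.1).1 (congrArg Subtype.val hz)⟩, Subtype.ext rfl⟩
  · show q t ∈ Cfsg.pCore 2 (G ⧸ A)
    by_contra htc
    have htI : Invol (q t) := ⟨by rw [← map_mul, ht.1, map_one], fun e => htc (e ▸ one_mem _)⟩
    obtain ⟨h, hh1, hho, hth⟩ := CfsgLib.Involution.BaerSuzuki.exists_inverted_odd (q t)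
      htI.orderOf fun M hM hM2 htM => htc (by
        haveI := hM; exact CfsgLib.Solvable.Cores.le_pCore hM2 htM)
    obtain ⟨j, hj⟩ := hho
    obtain ⟨y, hy⟩ := QuotientGroup.mk'_surjective A (h ^ (j + 1))
    have hty : q t * q y * (q t)⁻¹ = (q y)⁻¹ := by rw [hy]; exact real_pow hth _
    set w := y * t * y⁻¹ * t with hw
    have hqw : q w = h := by
      have e : q t * (q y)⁻¹ * (q t)⁻¹ = q y := conj_twice hty
      rw [htI.inv] at e
      rw [hw, map_mul, map_mul, map_mul, map_inv, mul_assoc, mul_assoc, ← mul_assoc (q t), e, hy,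
        ← pow_add, show j + 1 + (j + 1) = 2 * j + 1 + 1 by ring, ← hj, pow_succ,
        pow_orderOf_eq_one, one_mul]
    have htw : t * w * t⁻¹ = w⁻¹ := by
      rw [hw, ht.inv, mul_inv_rev, mul_inv_rev, mul_inv_rev, inv_inv, ht.inv]
      calc t * (y * t * y⁻¹ * t) * t = t * y * t * y⁻¹ * (t * t) := by group
        _ = t * (y * (t * y⁻¹)) := by rw [ht.1]; group
    obtain ⟨k, hk⟩ := exists_odd_pow w
    have h1 : h ^ 2 ^ k = 1 := by
      rw [← hqw, ← map_pow]
      exact (QuotientGroup.eq_one_iff _).2 (hodd _ hk (real_pow htw _))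
    exact hh1 (orderOf_eq_one_iff.1 (Nat.eq_one_of_dvd_coprimes
      ((Nat.coprime_two_left.2 (hj ▸ odd_two_mul_add_one j)).pow_left k)
      (orderOf_dvd_of_pow_eq_one h1) dvd_rfl))

end CfsgLib.FTApps.RealGraph
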