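import Cfsg.Agent.Lib.FTApps.RealGraph.Classes
import Cfsg.Agent.Lib.Solvable.FrattiniFitting

/-!
A group generated by 2-elements with an odd normal 2-complement `X`: if a subgroup `S` of `X`
centralizing a Sylow 2-subgroup supplements the centralizer of every real element, then `S` is trivial.
-/

set_option autoImplicit false
set_option linter.style.haveILetI false
set_option linter.unusedSectionVars false

namespace CfsgLib.FTApps.RealGraph

open Subgroup

variable {G : Type*} [Group G] [Finite G]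

/-- A group generated by 2-elements with no real elements of odd order is a 2-group. -/
theorem isPGroup_of_generated
    (hgen : closure {g : G | ∃ k : ℕ, g ^ 2 ^ k = 1} = ⊤)
    (h : Odd (Cfsg.pCore 2 G).index) : IsPGroup 2 G := by
  haveI : Fact (Nat.Prime 2) := ⟨Nat.prime_two⟩
  set O := Cfsg.pCore 2 G
  have htop : O = ⊤ := by
    rw [eq_top_iff, ← hgen, closure_le]
    rintro g ⟨k, hk⟩
    show g ∈ O
    rw [← QuotientGroup.eq_one_iff, ← orderOf_eq_one_iff]
    refine Nat.eq_one_of_dvd_coprimes ((Nat.coprime_two_left.2 h).pow_left k) ?_ ?_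
    · exact orderOf_dvd_of_pow_eq_one (by rw [← QuotientGroup.mk_pow, hk]; rfl)
    · rw [index_eq_card]; exact orderOf_dvd_natCard _
  have := CfsgLib.Solvable.Cores.isPGroup_pCore (G := G) 2
  rw [show Cfsg.pCore 2 G = O from rfl, htop] at this
  exact this.of_equiv Subgroup.topEquiv

/-- The image of a group generated by 2-elements is generated by 2-elements. -/
theorem generated_map {H : Type*} [Group H] (f : G →* H) (hf : Function.Surjective f)
    (hgen : closure {g : G | ∃ k : ℕ, g ^ 2 ^ k = 1} = ⊤) :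
    closure {g : H | ∃ k : ℕ, g ^ 2 ^ k = 1} = ⊤ := by
  rw [eq_top_iff, ← map_top_of_surjective f hf, ← hgen, MonoidHom.map_closure]
  refine closure_mono ?_
  rintro _ ⟨g, ⟨k, hk⟩, rfl⟩
  exact ⟨k, by rw [← map_pow, hk, map_one]⟩

theorem complement_trick (X P S : Subgroup G) [X.Normal] (hX : Odd (Nat.card X))
    (hgen : closure {g : G | ∃ k : ℕ, g ^ 2 ^ k = 1} = ⊤) (hP : IsPGroup 2 P) (hXP : X ⊔ P = ⊤)
    (hS : S ≤ X) (hSP : ∀ s ∈ S, ∀ p ∈ P, Commute s p)
    (hfac : ∀ y g : G, Odd (orderOf y) → g * y * g⁻¹ = y⁻¹ →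
      ∀ k ∈ X, ∃ s ∈ S, ∃ c ∈ X, Commute c y ∧ k = s * c) : S = ⊥ := by
  classical
  haveI : Fact (Nat.Prime 2) := ⟨Nat.prime_two⟩
  have hdec : ∀ g : G, ∃ x ∈ X, ∃ p ∈ P, x * p = g := fun g => by
    have h : g ∈ ((X ⊔ P : Subgroup G) : Set G) := by rw [hXP]; trivial
    rw [normal_mul] at h
    exact h
  have hoddX : ∀ y : G, Odd (orderOf y) → y ∈ X := by
    intro y hy
    obtain ⟨x, hx, p, hp, e⟩ := hdec y
    obtain ⟨k, hk⟩ := hP ⟨p, hp⟩
    have hk' : p ^ 2 ^ k = 1 := congrArg Subtype.val hk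
    rw [← QuotientGroup.eq_one_iff, ← orderOf_eq_one_iff]
    refine Nat.eq_one_of_dvd_coprimes ((Nat.coprime_two_left.2 hy).pow_left k) ?_
      (orderOf_map_dvd (QuotientGroup.mk' X) y)
    refine orderOf_dvd_of_pow_eq_one ?_
    rw [← e, QuotientGroup.mk_mul, (QuotientGroup.eq_one_iff x).2 hx, one_mul,
      ← QuotientGroup.mk_pow, hk']
    rfl
  -- real elements generate `X`
  set R := closure {y : G | Odd (orderOf y) ∧ ∃ g : G, g * y * g⁻¹ = y⁻¹} with hR
  have hRX : R ≤ X := (closure_le _).2 fun y hy => hoddX y hy.1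
  haveI : R.Normal := ⟨fun z hz k => by
    have hle : R ≤ R.comap (MulAut.conj k).toMonoidHom := (closure_le _).2 (by
      rintro y ⟨hy, g, hg⟩
      refine subset_closure ⟨?_, k * g * k⁻¹, ?_⟩
      · show Odd (orderOf (k * y * k⁻¹))
        exact (orderOf_injective (MulAut.conj k).toMonoidHom (MulAut.conj k).injective y).symm ▸ hy
      · show k * g * k⁻¹ * (k * y * k⁻¹) * (k * g * k⁻¹)⁻¹ = (k * y * k⁻¹)⁻¹
        calc k * g * k⁻¹ * (k * y * k⁻¹) * (k * g * k⁻¹)⁻¹ = k * (g * y * g⁻¹) * k⁻¹ := by group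
          _ = (k * y * k⁻¹)⁻¹ := by rw [hg, conj_inv])
    exact hle hz⟩
  have hXR : X ≤ R := by
    have hnr : RealTwoPart.NoReal (G ⧸ R) := by
      intro y g hy hg
      obtain ⟨u, h, hu, hh⟩ := lift_odd (QuotientGroup.mk' R) (QuotientGroup.mk'_surjective R)
        (by rw [QuotientGroup.ker_mk']; exact hX.of_dvd_nat (card_dvd_of_le hRX)) hg
      rw [← hu] at hy
      obtain ⟨u', hu', ho', hh'⟩ := odd_of_lift (QuotientGroup.mk' R) hy hh
      rw [← hu, ← hu']
      exact (QuotientGroup.eq_one_iff u').2 (subset_closure ⟨ho', h, hh'⟩)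
    have h2 := isPGroup_of_generated (generated_map _ (QuotientGroup.mk'_surjective R) hgen)
      (RealTwoPart.odd_index_pCore hnr)
    intro x hx
    obtain ⟨k, hk⟩ := h2 (QuotientGroup.mk' R x)
    rw [← QuotientGroup.eq_one_iff, ← orderOf_eq_one_iff]
    refine Nat.eq_one_of_dvd_coprimes ((Nat.coprime_two_left.2 hX).pow_left k)
      (orderOf_dvd_of_pow_eq_one hk) ((orderOf_map_dvd (QuotientGroup.mk' R) x).trans ?_)
    rw [← Subgroup.orderOf_mk x hx]
    exact orderOf_dvd_natCard _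
  have hgenX : closure {y : ↥X | Odd (orderOf (y : G)) ∧ ∃ g : G, g * y * g⁻¹ = (y : G)⁻¹} = ⊤ := by
    refine eq_top_iff.2 fun x _ => ?_
    have h2 : (x : G) ∈ (closure {y : ↥X | Odd (orderOf (y : G)) ∧
        ∃ g : G, g * y * g⁻¹ = (y : G)⁻¹}).map X.subtype := by
      rw [MonoidHom.map_closure]
      refine closure_mono ?_ (hXR x.2)
      rintro y ⟨hy, hy'⟩
      exact ⟨⟨y, hoddX y hy⟩, ⟨hy, hy'⟩, rfl⟩
    obtain ⟨z, hz, e⟩ := h2
    rwa [Subtype.ext e] at hz
  -- `S` lies in the derived subgroup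
  let φ := Abelianization.of (G := ↥X)
  have hφodd : ∀ a : Abelianization ↥X, a * a = 1 → a = 1 := fun a ha => by
    refine eq_one_of_odd_sq (hX.of_dvd_nat ((orderOf_dvd_natCard a).trans ?_)) ha
    exact card_dvd_of_surjective φ QuotientGroup.mk_surjective
  haveI := Fintype.ofFinite ↥P
  let cj : ↥P → ↥X → ↥X := fun p x =>
    ⟨(p : G) * x * (p : G)⁻¹, Normal.conj_mem inferInstance _ x.2 _⟩
  have hcj : ∀ p x x', cj p (x * x') = cj p x * cj p x' := fun p x x' => Subtype.ext (by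
    show (p : G) * ((x : G) * x') * (p : G)⁻¹ =
      (p : G) * x * (p : G)⁻¹ * ((p : G) * x' * (p : G)⁻¹)
    group)
  let Φ : ↥X →* Abelianization ↥X :=
    MonoidHom.mk' (fun x => ∏ p : ↥P, φ (cj p x)) (fun x x' => by
      rw [← Finset.prod_mul_distrib]
      exact Finset.prod_congr rfl fun p _ => by rw [hcj, map_mul])
  have hΦP : ∀ (q : ↥P) (x : ↥X), Φ (cj q x) = Φ x := by
    intro q x
    show ∏ p : ↥P, φ (cj p (cj q x)) = ∏ p : ↥P, φ (cj p x)
    refine (Finset.prod_congr rfl fun p _ => ?_).trans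
      (Equiv.prod_comp (Equiv.mulRight q) fun p => φ (cj p x))
    refine congrArg φ (Subtype.ext ?_)
    show (p : G) * ((q : G) * x * (q : G)⁻¹) * (p : G)⁻¹ = ((p * q : ↥P) : G) * x * ((p * q : ↥P) : G)⁻¹
    rw [Subgroup.coe_mul]; group
  have hΦ : Φ = 1 := MonoidHom.eq_of_eqOn_dense hgenX (by
    rintro y ⟨hy, g, hg⟩
    obtain ⟨x, hx, p, hp, e⟩ := hdec g
    have e1 : (⟨x, hx⟩ : ↥X) * cj ⟨p, hp⟩ y * (⟨x, hx⟩ : ↥X)⁻¹ = y⁻¹ := Subtype.ext (by
      show x * (p * (y : G) * p⁻¹) * x⁻¹ = (y : G)⁻¹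
      rw [← hg, ← e]; group)
    have h2 := congrArg Φ e1
    rw [map_mul, map_mul, map_inv, map_inv, mul_inv_cancel_comm, hΦP] at h2
    exact hφodd _ (eq_inv_iff_mul_eq_one.1 h2))
  have hScomm : S.subgroupOf X ≤ commutator ↥X := by
    intro s hs
    rw [← Abelianization.ker_of, MonoidHom.mem_ker]
    have h1 : Φ s = φ s ^ Nat.card ↥P := by
      show ∏ p : ↥P, φ (cj p s) = _
      rw [Finset.prod_congr rfl (g := fun _ => φ s) fun p _ => congrArg φ (Subtype.ext ?_),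
        Finset.prod_const, Finset.card_univ, Nat.card_eq_fintype_card]
      show (p : G) * (s : G) * (p : G)⁻¹ = s
      rw [(hSP _ (mem_subgroupOf.1 hs) _ p.2).symm.eq, mul_inv_cancel_right]
    rw [hΦ, MonoidHom.one_apply] at h1
    obtain ⟨k, hk⟩ := hP.exists_card_eq
    rw [hk] at h1
    refine orderOf_eq_one_iff.1 (Nat.eq_one_of_dvd_coprimes
      ((Nat.coprime_two_left.2 hX).pow_left k) (orderOf_dvd_of_pow_eq_one h1.symm)
      ((orderOf_map_dvd φ s).trans (orderOf_dvd_natCard s)))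
  -- `X` is nilpotent
  have hconj : ∀ y g : G, Odd (orderOf y) → g * y * g⁻¹ = y⁻¹ →
      ∃ h k : G, h ∈ P ∧ h * (k⁻¹ * y * k) * h⁻¹ = (k⁻¹ * y * k)⁻¹ := by
    intro y g hy hg
    obtain ⟨m, n, ⟨j, hj⟩, hn⟩ := exists_two_part g
    have hg2 : g ^ 2 * y * (g ^ 2)⁻¹ = y := by
      rw [pow_two, show g * g * y * (g * g)⁻¹ = g * (g * y * g⁻¹) * g⁻¹ by group, hg]
      exact conj_twice hg
    have hgm : g ^ m * y * (g ^ m)⁻¹ = y⁻¹ := by
      rw [hj, pow_succ', pow_mul, show g * (g ^ 2) ^ j * y * (g * (g ^ 2) ^ j)⁻¹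
        = g * ((g ^ 2) ^ j * y * ((g ^ 2) ^ j)⁻¹) * g⁻¹ by group,
        (Commute.pow_left (mul_inv_eq_iff_eq_mul.1 hg2 : Commute (g ^ 2) y) j).eq,
        mul_inv_cancel_right, hg]
    obtain ⟨Q, hQ⟩ := (IsPGroup.of_card (p := 2) (n := Classical.choose
      ((Nat.dvd_prime_pow Nat.prime_two).1 (orderOf_dvd_of_pow_eq_one hn)))
      (G := zpowers (g ^ m)) (by
        rw [Nat.card_zpowers]
        exact (Classical.choose_spec ((Nat.dvd_prime_pow Nat.prime_two).1
          (orderOf_dvd_of_pow_eq_one hn))).2)).exists_le_sylow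
    obtain ⟨R₀, hR₀⟩ := hP.exists_le_sylow
    have hR₀P : (R₀ : Subgroup G) ≤ P := fun z hz => by
      obtain ⟨x, hx, q, hq, rfl⟩ := hdec z
      have hxR : x ∈ (R₀ : Subgroup G) := (mul_mem_cancel_right (hR₀ hq)).1 hz
      rw [RealTwoPart.eq_one_of_mem_two R₀.isPGroup' hxR (by
        refine hX.of_dvd_nat ?_
        rw [← Subgroup.orderOf_mk x hx]
        exact orderOf_dvd_natCard _), one_mul]
      exact hq
    obtain ⟨k, hk⟩ := MulAction.exists_smul_eq G Q R₀
    refine ⟨k * g ^ m * k⁻¹, k⁻¹, ?_, ?_⟩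
    · have h1 : k * g ^ m * k⁻¹ ∈ (k • Q : Sylow 2 G).toSubgroup :=
        mem_map.2 ⟨g ^ m, hQ (mem_zpowers _), rfl⟩
      rw [hk] at h1
      exact hR₀P h1
    · rw [inv_inv, show k * g ^ m * k⁻¹ * (k * y * k⁻¹) * (k * g ^ m * k⁻¹)⁻¹
        = k * (g ^ m * y * (g ^ m)⁻¹) * k⁻¹ by group, hgm, conj_inv]
  have hinv : ∀ y p : G, Odd (orderOf y) → p ∈ P → p * y * p⁻¹ = y⁻¹ → ∀ k ∈ X,
      Commute (p⁻¹ * k⁻¹ * p * k) y := by
    intro y p hy hp hpy k hk
    obtain ⟨s, hs, c, -, hcy, rfl⟩ := hfac y p hy hpy k hk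
    have e1 : p * (s * y * s⁻¹) * p⁻¹ = (s * y * s⁻¹)⁻¹ := by
      rw [conj_inv, ← hpy]
      calc p * (s * y * s⁻¹) * p⁻¹ = (p * s) * y * (p * s)⁻¹ := by group
        _ = s * p * y * (s * p)⁻¹ := by rw [(hSP s hs p hp).symm.eq]
        _ = s * (p * y * p⁻¹) * s⁻¹ := by group
    refine mul_inv_eq_iff_eq_mul.1 ?_
    have e2 : s * c * y * (s * c)⁻¹ = s * y * s⁻¹ := by
      rw [show s * c * y * (s * c)⁻¹ = s * (c * y * c⁻¹) * s⁻¹ by group, hcy.eq, mul_inv_cancel_right]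
    calc p⁻¹ * (s * c)⁻¹ * p * (s * c) * y * (p⁻¹ * (s * c)⁻¹ * p * (s * c))⁻¹
        = p⁻¹ * ((s * c)⁻¹ * (p * (s * c * y * (s * c)⁻¹) * p⁻¹) * (s * c)) * p := by group
      _ = p⁻¹ * ((s * c)⁻¹ * (s * c * y * (s * c)⁻¹)⁻¹ * (s * c)) * p := by rw [e2, e1]
      _ = p⁻¹ * y⁻¹ * p := by group
      _ = y := by rw [← hpy]; group
  have hab : ∀ y p : G, Odd (orderOf y) → p ∈ P → p * y * p⁻¹ = y⁻¹ → ∀ hyX : y ∈ X,
      (⟨y, hyX⟩ : ↥X) ∈ Cfsg.fittingSubgroup ↥X := by
    intro y p hy hp hpy hyX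
    let e : ↥X → ↥X := fun k =>
      ⟨p⁻¹ * (k : G)⁻¹ * p * k, mul_mem (by
        have := Normal.conj_mem (inferInstance : X.Normal) _ (inv_mem k.2) p⁻¹
        rwa [inv_inv] at this) k.2⟩
    set Q := closure (Set.range e) with hQ
    haveI : Q.Normal := ⟨fun z hz h => by
      have hle : Q ≤ Q.comap (MulAut.conj h).toMonoidHom := (closure_le _).2 (by
        rintro _ ⟨k, rfl⟩
        show h * e k * h⁻¹ ∈ Q
        have e3 : h * e k * h⁻¹ = (e h⁻¹)⁻¹ * e (k * h⁻¹) := Subtype.ext (by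
          show (h : G) * (p⁻¹ * (k : G)⁻¹ * p * k) * (h : G)⁻¹ =
            (p⁻¹ * ((h : G)⁻¹)⁻¹ * p * (h : G)⁻¹)⁻¹ *
              (p⁻¹ * ((k : G) * (h : G)⁻¹)⁻¹ * p * ((k : G) * (h : G)⁻¹))
          group)
        rw [e3]
        exact mul_mem (inv_mem (subset_closure ⟨_, rfl⟩)) (subset_closure ⟨_, rfl⟩))
      exact hle hz⟩
    set A := Q ⊓ centralizer (Q : Set ↥X)
    haveI : A.Normal := normal_inf_normal _ _
    have hAn : Group.IsNilpotent A := by
      letI : CommGroup A :=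
        { (inferInstance : Group A) with
          mul_comm := fun a b => Subtype.ext (mem_centralizer_iff.1 b.2.2 a a.2.1) }
      infer_instance
    refine CfsgLib.Solvable.Cores.le_fittingSubgroup hAn ⟨?_, ?_⟩
    · obtain ⟨j, hj⟩ := hy
      have h3 : e ⟨y ^ (j + 1), pow_mem hyX _⟩ = ⟨y, hyX⟩ := Subtype.ext (by
        show p⁻¹ * (y ^ (j + 1))⁻¹ * p * y ^ (j + 1) = y
        rw [← real_pow hpy (j + 1)]
        calc p⁻¹ * (p * y ^ (j + 1) * p⁻¹) * p * y ^ (j + 1) = y ^ (j + 1 + (j + 1)) := by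
              rw [pow_add]; group
          _ = y := by
            rw [show j + 1 + (j + 1) = 2 * j + 1 + 1 by ring, ← hj, pow_succ, pow_orderOf_eq_one,
              one_mul])
      exact h3 ▸ subset_closure ⟨_, rfl⟩
    · refine mem_centralizer_iff.2 fun z hz => ?_
      have hle : Q ≤ centralizer ({(⟨y, hyX⟩ : ↥X)} : Set ↥X) := (closure_le _).2 (by
        rintro _ ⟨k, rfl⟩
        exact mem_centralizer_singleton_iff.2 (Subtype.ext (hinv y p hy hp hpy k k.2).eq))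
      exact mem_centralizer_singleton_iff.1 (hle hz)
  haveI hnil : Group.IsNilpotent ↥X := by
    refine CfsgLib.Solvable.Cores.fittingSubgroup_eq_top_iff.1 (eq_top_iff.2 ?_)
    rw [← hgenX, closure_le]
    rintro y ⟨hy, g, hg⟩
    obtain ⟨h, k, hh, hhk⟩ := hconj y g hy hg
    have hk' : k⁻¹ * (y : G) * k ∈ X := by
      have := Normal.conj_mem (inferInstance : X.Normal) _ y.2 k⁻¹
      rwa [inv_inv] at this
    have ho : Odd (orderOf (k⁻¹ * (y : G) * k)) := by
      have h1 := orderOf_injective (MulAut.conj k⁻¹).toMonoidHom (MulAut.conj k⁻¹).injective (y : G)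
      simp only [MulEquiv.coe_toMonoidHom, MulAut.conj_apply, inv_inv] at h1
      rwa [h1]
    have hmem := mem_map_of_mem (MulAut.conjNormal k : ↥X ≃* ↥X).toMonoidHom (hab _ h ho hh hhk hk')
    rw [show (MulAut.conjNormal k : ↥X ≃* ↥X).toMonoidHom ⟨k⁻¹ * (y : G) * k, hk'⟩ = y from
      Subtype.ext (by simp [MulAut.conjNormal_apply, mul_assoc])] at hmem
    have hle : (Cfsg.fittingSubgroup ↥X).map (MulAut.conjNormal k : ↥X ≃* ↥X).toMonoidHom ≤
        Cfsg.fittingSubgroup ↥X := by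
      haveI : ((Cfsg.fittingSubgroup ↥X).map (MulAut.conjNormal k : ↥X ≃* ↥X).toMonoidHom).Normal :=
        Normal.map inferInstance _ (MulEquiv.surjective _)
      exact CfsgLib.Solvable.Cores.le_fittingSubgroup
        (Group.nilpotent_of_surjective _ (MonoidHom.subgroupMap_surjective _ _))
    exact hle hmem
  -- real elements are central, so `X` is abelian
  have hcent : ∀ y ∈ {y : ↥X | Odd (orderOf (y : G)) ∧ ∃ g : G, g * y * g⁻¹ = (y : G)⁻¹},
      y ∈ center ↥X := by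
    rintro y ⟨hy, g, hg⟩
    have htop : centralizer ({y} : Set ↥X) = ⊤ := by
      refine frattini_nongenerating (eq_top_iff.2 fun k _ => ?_)
      obtain ⟨s, hs, c, hc, hcy, e⟩ := hfac y g hy hg k k.2
      rw [show k = (⟨s, hS hs⟩ : ↥X) * ⟨c, hc⟩ from Subtype.ext e]
      exact mul_mem
        (mem_sup_right (CfsgLib.Solvable.FrattiniFitting.commutator_le_frattini
          (hScomm (show (⟨s, hS hs⟩ : ↥X) ∈ S.subgroupOf X from hs))))
        (mem_sup_left (mem_centralizer_singleton_iff.2 (Subtype.ext hcy.eq)))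
    exact mem_center_iff.2 fun k => mem_centralizer_singleton_iff.1 (htop ▸ mem_top k)
  have habX : commutator ↥X = ⊥ := by
    have hc : center ↥X = ⊤ := eq_top_iff.2 (hgenX ▸ (closure_le _).2 hcent)
    rw [_root_.commutator_def, commutator_eq_bot_iff_le_centralizer]
    intro a _
    rw [mem_centralizer_iff]
    exact fun b _ => mem_center_iff.1 (hc ▸ mem_top a) b
  refine (eq_bot_iff_forall _).2 fun s hs => ?_
  have h := hScomm (show (⟨s, hS hs⟩ : ↥X) ∈ S.subgroupOf X from hs)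
  rw [habX, mem_bot] at h
  exact congrArg Subtype.val h

end CfsgLib.FTApps.RealGraph
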