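import Cfsg.Agent.Lib.FTApps.RealGraph.Basic

/-!
Two commuting involutions cannot invert one of two commuting real elements of odd prime order each,
when the centralizer of every real element of odd order is transitive on the orbits.
-/

set_option autoImplicit false
set_option linter.style.haveILetI false
set_option linter.unusedSectionVars false

namespace CfsgLib.FTApps.RealGraph

open Subgroup

/-- In a finite commutative domain generated by one element of characteristic two two involutive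
automorphisms induced by conjugation agree. -/
theorem conj_autos_eq {E : Type*} [Ring E] [Finite E] (c : E) (h01 : (1 : E) ≠ 0)
    (h2 : (1 : E) + 1 = 0)
    (hdom : ∀ p ∈ Subring.closure ({c} : Set E), ∀ q ∈ Subring.closure ({c} : Set E),
      p * q = 0 → p = 0 ∨ q = 0)
    {a b : E} (ha : a * a = 1) (hb : b * b = 1)
    (hac : a * c * a ∈ Subring.closure ({c} : Set E))
    (hbc : b * c * b ∈ Subring.closure ({c} : Set E))
    {X Y : E} (hX : X ∈ Subring.closure ({c} : Set E)) (hY : Y ∈ Subring.closure ({c} : Set E))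
    (hYa : a * Y * a = Y) (hXb : b * X * b = X) (hXa : a * X * a ≠ X) (hYb : b * Y * b ≠ Y) :
    False := by
  let K := Subring.closure ({c} : Set E)
  letI : CommRing K :=
    { (inferInstance : Ring K) with
      mul_comm := fun p q => Subtype.ext (by
        have hle : K ≤ Subring.centralizer {c} := Subring.closure_le.2 (by
          rintro _ rfl
          exact Subring.mem_centralizer_iff.2 fun e he => by rw [Set.mem_singleton_iff.1 he])
        have hle' : K ≤ Subring.centralizer {(p : E)} := Subring.closure_le.2 (by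
          rintro _ rfl
          exact Subring.mem_centralizer_iff.2 fun e he => by
            rw [Set.mem_singleton_iff.1 he]
            exact (Subring.mem_centralizer_iff.1 (hle p.2) _ rfl).symm)
        exact Subring.mem_centralizer_iff.1 (hle' q.2) _ rfl) }
  haveI : Nontrivial K := ⟨1, 0, fun e => h01 (congrArg Subtype.val e)⟩
  haveI : NoZeroDivisors K := ⟨fun {p q} hpq => by
    rcases hdom p p.2 q q.2 (congrArg Subtype.val hpq) with h | h
    · exact Or.inl (Subtype.ext h)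
    · exact Or.inr (Subtype.ext h)⟩
  haveI : IsDomain K := NoZeroDivisors.to_isDomain _
  letI : Field K := (Finite.isDomain_to_isField K).toField
  haveI : CharP K 2 := CharTwo.of_one_ne_zero_of_two_eq_zero one_ne_zero (by
    rw [← one_add_one_eq_two]
    exact Subtype.ext h2)
  letI : Algebra (ZMod 2) K := ZMod.algebra K 2
  have key : ∀ u : E, u * u = 1 → u * c * u ∈ K →
      ∃ σ : K ≃ₐ[ZMod 2] K, σ * σ = 1 ∧ ∀ q : K, (σ q : E) = u * (q : E) * u := by
    intro u hu hm
    let φ : E →+* E :=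
      { toFun := fun p => u * p * u
        map_one' := by rw [mul_one, hu]
        map_mul' := fun p q => by
          show u * (p * q) * u = u * p * u * (u * q * u)
          simp only [mul_assoc]
          rw [← mul_assoc u u, hu, one_mul]
        map_zero' := by rw [mul_zero, zero_mul]
        map_add' := fun p q => by rw [mul_add, add_mul] }
    have hmap : K ≤ K.comap φ := Subring.closure_le.2 (by rintro _ rfl; exact hm)
    let f : K → K := fun q => ⟨φ q, hmap q.2⟩
    have hff : ∀ q, f (f q) = q := fun q => Subtype.ext (by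
      show u * (u * (q : E) * u) * u = q
      simp only [mul_assoc]
      rw [hu, mul_one, ← mul_assoc, hu, one_mul])
    let e : K ≃+* K :=
      { toFun := f
        invFun := f
        left_inv := hff
        right_inv := hff
        map_mul' := fun p q => Subtype.ext (φ.map_mul _ _)
        map_add' := fun p q => Subtype.ext (φ.map_add _ _) }
    refine ⟨AlgEquiv.ofRingEquiv (f := e) (fun p => ?_), AlgEquiv.ext hff, fun q => rfl⟩
    exact RingHom.congr_fun (Subsingleton.elim (e.toRingHom.comp (algebraMap (ZMod 2) K))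
      (algebraMap (ZMod 2) K)) p
  obtain ⟨σa, hσa, hσaq⟩ := key a ha hac
  obtain ⟨σb, hσb, hσbq⟩ := key b hb hbc
  have ha1 : σa ≠ 1 := fun e => hXa (by rw [← hσaq ⟨X, hX⟩, e]; rfl)
  have hb1 : σb ≠ 1 := fun e => hYb (by rw [← hσbq ⟨Y, hY⟩, e]; rfl)
  classical
  have hne : σa ≠ σb := fun e => hXa (by rw [← hσaq ⟨X, hX⟩, e, hσbq ⟨X, hX⟩]; exact hXb)
  have hle := IsCyclic.card_pow_eq_one_le (α := K ≃ₐ[ZMod 2] K) (n := 2) two_pos
  have hsub : ({1, σa, σb} : Finset (K ≃ₐ[ZMod 2] K)) ⊆ Finset.univ.filter fun s => s ^ 2 = 1 := by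
    intro s hs
    simp only [Finset.mem_insert, Finset.mem_singleton] at hs
    rcases hs with rfl | rfl | rfl <;> simp [pow_two, hσa, hσb]
  have := (Finset.card_le_card hsub).trans hle
  rw [Finset.card_insert_of_notMem (by simp [Ne.symm ha1, Ne.symm hb1]),
    Finset.card_insert_of_notMem (by simpa using hne), Finset.card_singleton] at this
  omega

variable (Γ V : Type*) [Group Γ] [AddCommGroup V] [DistribMulAction Γ V]

/-- The action of `Γ` on `V` obtained from a disconnected real class size graph. -/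
structure Hyp : Prop where
  two : ∀ v : V, v + v = 0
  nt : ∃ v : V, v ≠ 0
  faith : ∀ g : Γ, (∀ v : V, g • v = v) → g = 1
  syl : ∀ v : V, v ≠ 0 → ∃ P : Subgroup Γ, IsPGroup 2 P ∧ Odd P.index ∧
    (∀ p ∈ P, p • v = v) ∧ ∀ g : Γ, g • v = v → g ∈ normalizer (P : Set Γ)
  fpf : ∀ x g : Γ, Odd (orderOf x) → g * x * g⁻¹ = x⁻¹ → x ≠ 1 → ∀ v : V, x • v = v → v = 0
  trans : ∀ x g : Γ, Odd (orderOf x) → g * x * g⁻¹ = x⁻¹ → x ≠ 1 → ∀ (v : V) (h : Γ),
    ∃ c : Γ, Commute c x ∧ c • v = h • v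
  irr : ∀ U : AddSubgroup V, (∀ g : Γ, ∀ u ∈ U, g • u ∈ U) → U = ⊥ ∨ U = ⊤

variable {Γ V} [Finite Γ] [Finite V] (H : Hyp Γ V)

include H

theorem Hyp.sum_pow_smul {g h : Γ} {p : ℕ} (hp : Odd p) (ho : g ^ p = 1) (hg : g ≠ 1)
    (hh : h * g * h⁻¹ = g⁻¹) (w : V) : ∑ k ∈ Finset.range p, g ^ k • w = 0 := by
  refine H.fpf g h (hp.of_dvd_nat (orderOf_dvd_of_pow_eq_one ho)) hh hg _ ?_
  rw [Finset.smul_sum]
  have h1 := Finset.sum_range_succ (fun k => g ^ k • w) p
  rw [Finset.sum_range_succ' (fun k => g ^ k • w) p, ho, pow_zero, one_smul] at h1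
  rw [Finset.sum_congr rfl fun k _ => by rw [← mul_smul, ← pow_succ']]
  exact add_right_cancel h1

/-- Equal prime orders: the elementary abelian group would act without fixed points. -/
theorem Hyp.no_rank_two {x y w : Γ} {p : ℕ} (hp : p.Prime) (hodd : Odd p) (hx : x ^ p = 1)
    (hy : orderOf y = p) (hxy : Commute x y) (hwx : w * x * w⁻¹ = x⁻¹) (hwy : w * y * w⁻¹ = y⁻¹)
    (hne : ∀ j : ℕ, x * y ^ j ≠ 1) : False := by
  obtain ⟨v, hv⟩ := H.nt
  have hS : ∀ j : ℕ, ∑ k ∈ Finset.range p, (x * y ^ j) ^ k • v = 0 := by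
    intro j
    refine H.sum_pow_smul hodd ?_ (hne j) (h := w) ?_ v
    · rw [(hxy.pow_right j).mul_pow, hx, one_mul, ← pow_mul, mul_comm, pow_mul, ← hy,
        pow_orderOf_eq_one, one_pow]
    · rw [show w * (x * y ^ j) * w⁻¹ = w * x * w⁻¹ * (w * y ^ j * w⁻¹) by group, hwx, real_pow hwy,
        mul_inv_rev, ((hxy.pow_right j).inv_inv).eq]
  have hT : ∀ k ∈ Finset.range p, k ≠ 0 → ∑ j ∈ Finset.range p, (x * y ^ j) ^ k • v = 0 := by
    intro k hk hk0
    have hyk : y ^ k ≠ 1 := fun e => by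
      have := Nat.le_of_dvd (Nat.pos_of_ne_zero hk0) (orderOf_dvd_of_pow_eq_one e)
      rw [hy] at this
      exact absurd (Finset.mem_range.1 hk) (not_lt.2 this)
    have h2 := H.sum_pow_smul hodd (g := y ^ k) (by rw [← pow_mul, mul_comm, pow_mul, ← hy,
      pow_orderOf_eq_one, one_pow]) hyk (h := w) (real_pow hwy k) (x ^ k • v)
    rw [← h2]
    refine Finset.sum_congr rfl fun j _ => ?_
    rw [(hxy.pow_right j).mul_pow, ((hxy.pow_right j).pow_pow k k).eq, mul_smul, ← pow_mul, ← pow_mul,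
      mul_comm j k]
  have h3 : ∑ k ∈ Finset.range p, ∑ j ∈ Finset.range p, (x * y ^ j) ^ k • v = 0 := by
    rw [Finset.sum_comm]
    exact Finset.sum_eq_zero fun j _ => hS j
  rw [Finset.sum_eq_single 0 (fun k hk hk0 => hT k hk hk0)
    (fun h => absurd (Finset.mem_range.2 hp.pos) h)] at h3
  simp only [pow_zero, one_smul, Finset.sum_const, Finset.card_range] at h3
  obtain ⟨m, hm⟩ := hodd
  rw [hm, add_nsmul, one_nsmul, mul_nsmul, two_nsmul, H.two, nsmul_zero, zero_add] at h3
  · exact hv h3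

/-- Distinct prime orders: the Galois group of a finite field is cyclic. -/
theorem Hyp.no_field {x y z i : Γ} (hz : Invol z) (hi : Invol i) {c : Γ} (hc : c = x * y)
    (hxy : Commute x y) (hzx : z * x * z⁻¹ = x⁻¹) (hzy : Commute z y) (hix : Commute i x)
    (hiy : i * y * i⁻¹ = y⁻¹) (hxo : Odd (orderOf x)) (hyo : Odd (orderOf y))
    (hxp : ∃ m : ℕ, x = c ^ m) (hyp : ∃ m : ℕ, y = c ^ m) (hx1 : x ≠ 1) (hy1 : y ≠ 1) : False := by
  have hzc : z * c * z⁻¹ = x⁻¹ * y := by
    rw [hc, show z * (x * y) * z⁻¹ = z * x * z⁻¹ * (z * y * z⁻¹) by group, hzx, hzy.eq, mul_inv_cancel_right]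
  have hic : i * c * i⁻¹ = x * y⁻¹ := by
    rw [hc, show i * (x * y) * i⁻¹ = i * x * i⁻¹ * (i * y * i⁻¹) by group, hiy, hix.eq, mul_inv_cancel_right]
  have hco : Odd (orderOf c) := by
    rw [hc]
    exact (hxo.mul hyo).of_dvd_nat hxy.orderOf_mul_dvd_mul_orderOf
  have hcreal : (z * i) * c * (z * i)⁻¹ = c⁻¹ := by
    rw [show (z * i) * c * (z * i)⁻¹ = z * (i * c * i⁻¹) * z⁻¹ by group, hic,
      show z * (x * y⁻¹) * z⁻¹ = z * x * z⁻¹ * (z * y⁻¹ * z⁻¹) by group, hzx, hzy.inv_right.eq,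
      mul_inv_cancel_right, hc, mul_inv_rev, hxy.inv_inv.eq]
  have hc1 : c ≠ 1 := fun e => by
    obtain ⟨m, hm⟩ := hxp
    exact hx1 (by rw [hm, e, one_pow])
  obtain ⟨v, hv⟩ := H.nt
  let ρ := DistribMulAction.toAddMonoidEnd Γ V
  let K := Subring.closure ({ρ c} : Set (AddMonoid.End V))
  haveI : Finite (AddMonoid.End V) := DFunLike.finite _
  have hker : ∀ p : K, (∃ w : V, w ≠ 0 ∧ (p : AddMonoid.End V) w = 0) → p = 0 := by
    rintro p ⟨w₀, hw₀, hpw⟩
    have hcomm : ∀ d : Γ, Commute d c → Commute (ρ d) (p : AddMonoid.End V) := by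
      intro d hd
      have hle : K ≤ Subring.centralizer {ρ d} := Subring.closure_le.2 (by
        rintro _ rfl
        refine Subring.mem_centralizer_iff.2 fun e he => ?_
        rw [Set.mem_singleton_iff.1 he, ← map_mul, ← map_mul, hd.eq])
      exact Subring.mem_centralizer_iff.1 (hle p.2) _ rfl
    rcases H.irr (AddMonoidHom.ker (p : AddMonoid.End V)) (fun g w hw => by
        obtain ⟨d, hd, hdw⟩ := H.trans c (z * i) hco hcreal hc1 w g
        have h1 : ρ d ((p : AddMonoid.End V) w) = (p : AddMonoid.End V) (ρ d w) :=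
          DFunLike.congr_fun (hcomm d hd).eq w
        calc (p : AddMonoid.End V) (g • w) = (p : AddMonoid.End V) (ρ d w) := congrArg _ hdw.symm
          _ = ρ d ((p : AddMonoid.End V) w) := h1.symm
          _ = ρ d 0 := congrArg _ hw
          _ = 0 := map_zero _) with hb | ht
    · exact absurd (AddSubgroup.mem_bot.1 (hb ▸ (AddMonoidHom.mem_ker.2 hpw :
        w₀ ∈ AddMonoidHom.ker (p : AddMonoid.End V)))) hw₀
    · exact Subtype.ext (DFunLike.ext _ _ fun w => AddMonoidHom.mem_ker.1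
        (ht.symm ▸ AddSubgroup.mem_top w : w ∈ AddMonoidHom.ker (p : AddMonoid.End V)))
  have hdom : ∀ p ∈ K, ∀ q ∈ K, p * q = 0 → p = 0 ∨ q = 0 := by
    intro p hp q hq hpq
    by_cases hq0 : q = 0
    · exact Or.inr hq0
    refine Or.inl (congrArg Subtype.val (hker ⟨p, hp⟩ ?_))
    obtain ⟨w, hw⟩ : ∃ w, q w ≠ 0 := by
      by_contra hc'
      push Not at hc'
      exact hq0 (DFunLike.ext _ _ hc')
    exact ⟨_, hw, DFunLike.congr_fun hpq w⟩
  obtain ⟨m, hm⟩ := hxp
  obtain ⟨l, hl⟩ := hyp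
  have hxi : x⁻¹ = c ^ (m * (orderOf x - 1)) := by
    rw [pow_mul, ← hm, inv_eq_iff_mul_eq_one, ← pow_succ', Nat.sub_add_cancel (orderOf_pos x),
      pow_orderOf_eq_one]
  have hyi : y⁻¹ = c ^ (l * (orderOf y - 1)) := by
    rw [pow_mul, ← hl, inv_eq_iff_mul_eq_one, ← pow_succ', Nat.sub_add_cancel (orderOf_pos y),
      pow_orderOf_eq_one]
  have hinj : ∀ a b : Γ, ρ a = ρ b → a = b := fun a b h => by
    rw [← inv_mul_eq_one]
    refine H.faith _ fun w => ?_
    have hw : a • w = b • w := DFunLike.congr_fun h w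
    rw [mul_smul, ← hw, ← mul_smul, inv_mul_cancel, one_smul]
  have hcK : ρ c ∈ K := Subring.subset_closure (Set.mem_singleton (ρ c))
  have hpowK : ∀ n : ℕ, ρ (c ^ n) ∈ K := fun n => by
    induction n with
    | zero => rw [pow_zero, map_one]; exact K.one_mem
    | succ n ih => rw [pow_succ, map_mul]; exact K.mul_mem ih hcK
  have hconj : ∀ u a : Γ, Invol u → ρ u * ρ a * ρ u = ρ (u * a * u⁻¹) := fun u a hu => by
    rw [hu.inv, map_mul, map_mul]
  refine conj_autos_eq (ρ c) ?_ ?_ hdom (a := ρ z) (b := ρ i) ?_ ?_ ?_ ?_ (X := ρ x) (Y := ρ y)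
    ?_ ?_ ?_ ?_ ?_ ?_
  · exact fun e => hv (DFunLike.congr_fun e v)
  · exact DFunLike.ext _ _ fun w => H.two w
  · rw [← map_mul, hz.1, map_one]
  · rw [← map_mul, hi.1, map_one]
  · rw [hconj z c hz, hzc, hxi, hl, ← pow_add]; exact hpowK _
  · rw [hconj i c hi, hic, hyi, hm, ← pow_add]; exact hpowK _
  · rw [hm]; exact hpowK _
  · rw [hl]; exact hpowK _
  · rw [hconj z y hz, hzy.eq, mul_inv_cancel_right]
  · rw [hconj i x hi, hix.eq, mul_inv_cancel_right]
  · rw [hconj z x hz, hzx]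
    exact fun e => hx1 (eq_one_of_odd_sq hxo (inv_eq_iff_mul_eq_one.1 (hinj _ _ e)))
  · rw [hconj i y hi, hiy]
    exact fun e => hy1 (eq_one_of_odd_sq hyo (inv_eq_iff_mul_eq_one.1 (hinj _ _ e)))

/-- There is no product of two dihedral groups. -/
theorem Hyp.no_dihedral_pair {x y z i : Γ} (hz : Invol z) (hi : Invol i)
    (hxy : Commute x y) (hzx : z * x * z⁻¹ = x⁻¹) (hzy : Commute z y) (hix : Commute i x)
    (hiy : i * y * i⁻¹ = y⁻¹) (hxo : Odd (orderOf x)) (hyo : Odd (orderOf y))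
    (hx1 : x ≠ 1) (hy1 : y ≠ 1) : False := by
  obtain ⟨p, hp, hpx⟩ := Nat.exists_prime_and_dvd (fun e => hx1 (orderOf_eq_one_iff.1 e))
  obtain ⟨q, hq, hqy⟩ := Nat.exists_prime_and_dvd (fun e => hy1 (orderOf_eq_one_iff.1 e))
  set X := x ^ (orderOf x / p) with hX
  set Y := y ^ (orderOf y / q) with hY
  have hXo : orderOf X = p := orderOf_pow_orderOf_div (orderOf_pos x).ne' hpx
  have hYo : orderOf Y = q := orderOf_pow_orderOf_div (orderOf_pos y).ne' hqy
  have hXY : Commute X Y := hxy.pow_pow _ _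
  have hzX : z * X * z⁻¹ = X⁻¹ := real_pow hzx _
  have hiY : i * Y * i⁻¹ = Y⁻¹ := real_pow hiy _
  have hX1 : X ≠ 1 := fun e => hp.ne_one (by rw [← hXo, e, orderOf_one])
  have hY1 : Y ≠ 1 := fun e => hq.ne_one (by rw [← hYo, e, orderOf_one])
  have hpo : Odd p := hXo ▸ odd_orderOf_pow hxo _
  have hqo : Odd q := hYo ▸ odd_orderOf_pow hyo _
  by_cases hpq : p = q
  · subst hpq
    refine H.no_rank_two hp hpo (w := z * i) (hXo ▸ pow_orderOf_eq_one X) hYo hXY ?_ ?_ fun j e => ?_
    · rw [show z * i * X * (z * i)⁻¹ = z * (i * X * i⁻¹) * z⁻¹ by group, (hix.pow_right _).eq,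
        mul_inv_cancel_right, hzX]
    · rw [show z * i * Y * (z * i)⁻¹ = z * (i * Y * i⁻¹) * z⁻¹ by group, hiY,
        (hzy.pow_right _).inv_right.eq, mul_inv_cancel_right]
    · refine hX1 (eq_one_of_odd_sq (hXo ▸ hpo) ?_)
      have hz' : z * X * z⁻¹ = X := by
        rw [eq_inv_of_mul_eq_one_left e, ((hzy.pow_right _).pow_right j).inv_right.eq, mul_inv_cancel_right]
      rw [hzX] at hz'
      exact inv_eq_iff_mul_eq_one.1 hz'
  · refine H.no_field hz hi rfl hXY hzX (hzy.pow_right _) (hix.pow_right _) hiY (hXo ▸ hpo)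
      (hYo ▸ hqo) ?_ ?_ hX1 hY1
    · obtain ⟨m, hm⟩ := exists_pow_eq_self_of_coprime (x := X) (n := q)
        (by rw [hXo]; exact (Nat.coprime_primes hq hp).2 (Ne.symm hpq))
      refine ⟨q * m, ?_⟩
      rw [pow_mul, hXY.mul_pow, ← hYo, pow_orderOf_eq_one, mul_one, hYo, hm]
    · obtain ⟨m, hm⟩ := exists_pow_eq_self_of_coprime (x := Y) (n := p)
        (by rw [hYo]; exact (Nat.coprime_primes hp hq).2 hpq)
      refine ⟨p * m, ?_⟩
      rw [pow_mul, hXY.mul_pow, ← hXo, pow_orderOf_eq_one, one_mul, hXo, hm]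

end CfsgLib.FTApps.RealGraph
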