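import Cfsg.Agent.Lib.FTApps.RealGraph.Field
import Cfsg.Agent.Lib.Involution.BaerSuzuki

/-!
In the action given by a disconnected real class size graph, real elements of odd order inverted by an
involution have centralizers of odd order, and commuting involutions have the same fixed points.
-/

set_option autoImplicit false
set_option linter.style.haveILetI false
set_option linter.unusedSectionVars false

namespace CfsgLib.FTApps.RealGraph

open Subgroup

variable {Γ V : Type*} [Group Γ] [AddCommGroup V] [DistribMulAction Γ V] [Finite Γ] [Finite V]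
  (H : Hyp Γ V)

include H

theorem Hyp.eq_of_add_eq_zero {v w : V} (h : v + w = 0) : v = w :=
  add_right_cancel (h.trans (H.two w).symm)

theorem Hyp.odd_orbit {v : V} (hv : v ≠ 0) : Odd (Nat.card (MulAction.orbit Γ v)) := by
  obtain ⟨P, -, hi, hfix, -⟩ := H.syl v hv
  rw [Nat.card_congr (MulAction.orbitEquivQuotientStabilizer Γ v), ← Subgroup.index_eq_card]
  exact hi.of_dvd_nat (index_dvd_of_le fun p hp => hfix p hp)

theorem Hyp.exists_fixed_in_orbit {P : Subgroup Γ} (hP : IsPGroup 2 P) {v : V} (hv : v ≠ 0) :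
    ∃ g : Γ, ∀ p ∈ P, p • g • v = g • v := by
  haveI : Fact (Nat.Prime 2) := ⟨Nat.prime_two⟩
  obtain ⟨⟨w, g, rfl⟩, hw⟩ := hP.nonempty_fixed_point_of_prime_not_dvd_card (MulAction.orbit Γ v)
    (by rw [← even_iff_two_dvd]; exact Nat.not_even_iff_odd.2 (H.odd_orbit hv))
  exact ⟨g, fun p hp => congrArg Subtype.val (hw ⟨p, hp⟩)⟩

theorem Hyp.smul_ne_zero' {g : Γ} {v : V} (hv : v ≠ 0) : g • v ≠ 0 := fun e =>
  hv (by rw [← inv_smul_smul g v, e, smul_zero])

theorem Hyp.pCore_eq_bot : Cfsg.pCore 2 Γ = ⊥ := by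
  haveI : Fact (Nat.Prime 2) := ⟨Nat.prime_two⟩
  refine (eq_bot_iff_forall _).2 fun g hg => H.faith g fun v => ?_
  by_cases hv : v = 0
  · rw [hv, smul_zero]
  obtain ⟨P, hP, hi, hfix, -⟩ := H.syl v hv
  exact hfix g (CfsgLib.Solvable.Cores.pCore_le_sylow
    (hP.toSylow (by rw [← even_iff_two_dvd]; exact Nat.not_even_iff_odd.2 hi)) hg)

/-- Every involution inverts a nontrivial element of odd order. -/
theorem Hyp.exists_inverted {a : Γ} (ha : Invol a) :
    ∃ x : Γ, x ≠ 1 ∧ Odd (orderOf x) ∧ a * x * a⁻¹ = x⁻¹ :=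
  CfsgLib.Involution.BaerSuzuki.exists_inverted_odd a ha.orderOf fun M hM hM2 haM => by
    haveI := hM
    exact ha.2 (mem_bot.1 (H.pCore_eq_bot.le (CfsgLib.Solvable.Cores.le_pCore hM2 haM)))

theorem Hyp.exists_fix_ne_zero {a : Γ} (ha : a * a = 1) : ∃ v : V, v ≠ 0 ∧ a • v = v := by
  obtain ⟨v, hv⟩ := H.nt
  by_cases h : v + a • v = 0
  · exact ⟨v, hv, (H.eq_of_add_eq_zero h).symm⟩
  · exact ⟨_, h, by rw [smul_add, ← mul_smul, ha, one_smul, add_comm]⟩

/-- The fixed points of an inverting involution are the norms. -/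
theorem Hyp.half {a x : Γ} (hxo : Odd (orderOf x)) (hx1 : x ≠ 1)
    (hax : a * x * a⁻¹ = x⁻¹) (W : AddSubgroup V) (hW : ∀ w ∈ W, x • w ∈ W) {w : V} (hw : w ∈ W)
    (haw : a • w = w) : ∃ u ∈ W, w = u + a • u := by
  have hWn : ∀ n : ℕ, ∀ v ∈ W, x ^ n • v ∈ W := fun n => by
    induction n with
    | zero => intro v hv; rwa [pow_zero, one_smul]
    | succ n ih => intro v hv; rw [pow_succ', mul_smul]; exact hW _ (ih v hv)
  have hxi : x⁻¹ = x ^ (orderOf x - 1) := by
    rw [inv_eq_iff_mul_eq_one, ← pow_succ', Nat.sub_add_cancel (orderOf_pos x), pow_orderOf_eq_one]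
  have hWi : ∀ v ∈ W, x⁻¹ • v ∈ W := hxi ▸ hWn _
  have hax1 : a * x = x⁻¹ * a := mul_inv_eq_iff_eq_mul.1 hax
  have hax2 : a * x⁻¹ = x * a := mul_inv_eq_iff_eq_mul.1 (conj_twice hax)
  have hswap : ∀ v : V, a • v = v → a • x • v = x⁻¹ • v ∧ a • x⁻¹ • v = x • v := fun v hv => by
    constructor
    · rw [← mul_smul, hax1, mul_smul, hv]
    · rw [← mul_smul, hax2, mul_smul, hv]
  let F := {v : V // v ∈ W ∧ a • v = v}
  let L : F → F := fun v => ⟨x • v.1 + x⁻¹ • v.1, W.add_mem (hW _ v.2.1) (hWi _ v.2.1), by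
    rw [smul_add, (hswap _ v.2.2).1, (hswap _ v.2.2).2, add_comm]⟩
  have hinj : Function.Injective L := by
    intro v v' e
    have e' : x • v.1 + x⁻¹ • v.1 = x • v'.1 + x⁻¹ • v'.1 := congrArg Subtype.val e
    have h0 : x • (v.1 - v'.1) + x⁻¹ • (v.1 - v'.1) = 0 := by
      rw [smul_sub, smul_sub, sub_add_sub_comm, e', sub_self]
    have h1 : (x * x) • (v.1 - v'.1) = v.1 - v'.1 := by
      rw [mul_smul, H.eq_of_add_eq_zero h0, smul_inv_smul]
    exact Subtype.ext (sub_eq_zero.1 (H.fpf (x * x) a (by rw [← pow_two]; exact odd_orderOf_pow hxo 2)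
      (by rw [← pow_two]; exact real_pow hax 2) (fun e => hx1 (eq_one_of_odd_sq hxo e)) _ h1))
  obtain ⟨v, hv⟩ := Finite.injective_iff_surjective.1 hinj ⟨w, hw, haw⟩
  refine ⟨x • v.1, hW _ v.2.1, ?_⟩
  rw [(hswap _ v.2.2).1]
  exact (congrArg Subtype.val hv).symm

/-- The fixed points of an inverting involution and of a conjugate meet trivially. -/
theorem Hyp.fix_inter_conj {a x : Γ} (ha : Invol a) (hxo : Odd (orderOf x)) (hx1 : x ≠ 1)
    (hax : a * x * a⁻¹ = x⁻¹) {v : V} (hv : a • v = v) (hv' : (x * a * x⁻¹) • v = v) : v = 0 := by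
  have e : x * a * x⁻¹ = x * x * a := by
    rw [mul_assoc, mul_assoc x x a, mul_inv_eq_iff_eq_mul.1 (conj_twice hax)]
  rw [e, mul_smul, hv] at hv'
  exact H.fpf (x * x) a (by rw [← pow_two]; exact odd_orderOf_pow hxo 2)
    (by rw [← pow_two]; exact real_pow hax 2) (fun e => hx1 (eq_one_of_odd_sq hxo e)) v hv'

/-- A real element of odd order inverted by an involution has a centralizer of odd order. -/
theorem Hyp.odd_card_centralizer {x z : Γ} (hz : Invol z) (hxo : Odd (orderOf x)) (hx1 : x ≠ 1)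
    (hzx : z * x * z⁻¹ = x⁻¹) : Odd (Nat.card (centralizer ({x} : Set Γ))) := by
  classical
  haveI : Fact (Nat.Prime 2) := ⟨Nat.prime_two⟩
  by_contra hc
  let K : Subgroup Γ := centralizer ({x} : Set Γ) ⊓ centralizer ({z} : Set Γ)
  have hKx : ∀ g : ↥K, Commute (g : Γ) x := fun g => mem_centralizer_singleton_iff.1 g.2.1
  have hKz : ∀ g : ↥K, Commute (g : Γ) z := fun g => mem_centralizer_singleton_iff.1 g.2.2
  have hcore : ∀ i : ↥K, Invol (i : Γ) → i ∈ Cfsg.pCore 2 ↥K := by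
    intro i hi
    by_contra hiO
    obtain ⟨y, hy1, hyo, hiy⟩ := CfsgLib.Involution.BaerSuzuki.exists_inverted_odd i
      (by rw [← Subgroup.orderOf_coe]; exact hi.orderOf)
      (fun M hM hM2 hiM => hiO (by haveI := hM; exact CfsgLib.Solvable.Cores.le_pCore hM2 hiM))
    exact H.no_dihedral_pair hz hi (hKx y).symm hzx (hKz y).symm (hKx i)
      (congrArg Subtype.val hiy) hxo (by rw [Subgroup.orderOf_coe]; exact hyo) hx1
      (fun e => hy1 (Subtype.ext e))
  let O : Subgroup ↥K := Cfsg.pCore 2 ↥K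
  let X : AddSubgroup V := AddMonoidHom.ker
    (DistribSMul.toAddMonoidHom V z - AddMonoidHom.id V)
  have hXmem : ∀ v : V, v ∈ X ↔ z • v = v := fun v => by
    rw [AddMonoidHom.mem_ker, AddMonoidHom.sub_apply, sub_eq_zero]; rfl
  have hXinv : ∀ o : ↥O, ∀ v ∈ X, ((o : ↥K) : Γ) • v ∈ X := fun o v hv => by
    rw [hXmem] at hv ⊢
    rw [← mul_smul, ← (hKz o.1).eq, mul_smul, hv]
  letI : DistribMulAction ↥O ↥X :=
    { smul := fun o v => ⟨((o : ↥K) : Γ) • (v : V), hXinv o v v.2⟩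
      one_smul := fun v => Subtype.ext (one_smul Γ (v : V))
      mul_smul := fun o o' v => Subtype.ext (mul_smul ((o : ↥K) : Γ) ((o' : ↥K) : Γ) (v : V))
      smul_zero := fun o => Subtype.ext (smul_zero _)
      smul_add := fun o v w => Subtype.ext (smul_add _ _ _) }
  obtain ⟨u₀, hu₀, hzu₀⟩ := H.exists_fix_ne_zero hz.1
  obtain ⟨f, ⟨u, huX⟩, hfu, hf⟩ := exists_invariant_functional (P := ↥O)
    (CfsgLib.Solvable.Cores.isPGroup_pCore 2) (X := ↥X) (fun v => Subtype.ext (H.two v.1))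
    (u₀ := ⟨u₀, (hXmem u₀).2 hzu₀⟩) (fun e => hu₀ (congrArg Subtype.val e))
  have hzu : z • u = u := (hXmem u).1 huX
  have hu0 : u ≠ 0 := fun e => hfu (by
    rw [show (⟨u, huX⟩ : ↥X) = 0 from Subtype.ext e, map_zero])
  have hfix : ∀ i : Γ, Invol i → Commute i x → Commute i z → i • u = u → False := by
    intro i hi hix hiz hiu
    obtain ⟨y, hy1, hyo, hiy⟩ := H.exists_inverted hi
    obtain ⟨y₁, -, hy₁⟩ := H.half hyo hy1 hiy ⊤ (fun _ _ => trivial) (w := u) trivial hiu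
    let Wi : AddSubgroup V := AddMonoidHom.ker (DistribSMul.toAddMonoidHom V i - AddMonoidHom.id V)
    have hWmem : ∀ v : V, v ∈ Wi ↔ i • v = v := fun v => by
      rw [AddMonoidHom.mem_ker, AddMonoidHom.sub_apply, sub_eq_zero]; rfl
    obtain ⟨y₂, hy₂i, hy₂⟩ := H.half hxo hx1 hzx Wi (fun v hv => by
        rw [hWmem] at hv ⊢
        rw [← mul_smul, hix.eq, mul_smul, hv]) ((hWmem u).2 hiu) hzu
    obtain ⟨y₃, -, hy₃⟩ := H.half hyo hy1 hiy ⊤ (fun _ _ => trivial) (w := y₂) trivial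
      ((hWmem y₂).1 hy₂i)
    have hwX : y₃ + z • y₃ ∈ X := (hXmem _).2 (by
      rw [smul_add, ← mul_smul, hz.1, one_smul, add_comm])
    have hiK : i ∈ K := ⟨mem_centralizer_singleton_iff.2 hix, mem_centralizer_singleton_iff.2 hiz⟩
    let o : ↥O := ⟨⟨i, hiK⟩, hcore ⟨i, hiK⟩ hi⟩
    refine hfu ?_
    have hdec : (⟨u, huX⟩ : ↥X) = ⟨y₃ + z • y₃, hwX⟩ + o • ⟨y₃ + z • y₃, hwX⟩ := Subtype.ext (by
      show u = y₃ + z • y₃ + i • (y₃ + z • y₃)
      rw [hy₂, hy₃, smul_add, smul_add, ← mul_smul i z, hiz.eq, mul_smul]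
      abel)
    rw [hdec, map_add, hf, CharTwo.add_self_eq_zero]
  obtain ⟨P, hP, hPi, hPfix, hPn⟩ := H.syl u hu0
  set C := centralizer ({x} : Set Γ) with hC
  obtain ⟨s, hs, hsI⟩ : ∃ s ∈ C ⊓ MulAction.stabilizer Γ u, Invol s := by
    refine exists_invol_of_even fun hodd => hc ?_
    have horb : MulAction.orbit ↥C u = MulAction.orbit Γ u := by
      refine Set.Subset.antisymm (fun _ ⟨g, hg⟩ => ⟨g.1, hg⟩) ?_
      rintro _ ⟨g, rfl⟩
      obtain ⟨d, hd, hdu⟩ := H.trans x z hxo hzx hx1 u g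
      exact ⟨⟨d, mem_centralizer_singleton_iff.2 hd⟩, hdu⟩
    have hst : MulAction.stabilizer ↥C u = (C ⊓ MulAction.stabilizer Γ u).subgroupOf C := by
      ext g
      rw [mem_subgroupOf, mem_inf, MulAction.mem_stabilizer_iff, MulAction.mem_stabilizer_iff]
      exact ⟨fun h => ⟨g.2, h⟩, fun h => h.2⟩
    rw [← Subgroup.card_mul_index (MulAction.stabilizer ↥C u)]
    refine Odd.mul ?_ ?_
    · rw [hst, Nat.card_congr (subgroupOfEquivOfLe inf_le_left).toEquiv]
      exact hodd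
    · rw [Subgroup.index_eq_card, ← Nat.card_congr (MulAction.orbitEquivQuotientStabilizer ↥C u),
        horb]
      exact H.odd_orbit hu0
  have hzP : z ∈ P := mem_of_two_element hP hPi (hPn z hzu) (isPGroup_zpowers_invol hz)
  have hsP : s ∈ P := mem_of_two_element hP hPi (hPn s hs.2) (isPGroup_zpowers_invol hsI)
  let Q : Subgroup Γ := C ⊓ P
  have hzQ : ∀ q ∈ Q, z * q * z ∈ Q := fun q hq => by
    refine ⟨mem_centralizer_singleton_iff.2 ?_, P.mul_mem (P.mul_mem hzP hq.2) hzP⟩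
    have hqx : Commute q x := mem_centralizer_singleton_iff.1 hq.1
    have e1 : z * x = x⁻¹ * z := mul_inv_eq_iff_eq_mul.1 hzx
    have e2 : z * x⁻¹ = x * z := mul_inv_eq_iff_eq_mul.1 (conj_twice hzx)
    calc z * q * z * x = z * q * (z * x) := by group
      _ = z * (q * x⁻¹) * z := by rw [e1]; group
      _ = z * (x⁻¹ * q) * z := by rw [hqx.inv_right.eq]
      _ = z * x⁻¹ * q * z := by group
      _ = x * (z * q * z) := by rw [e2]; group
  let σ : Equiv.Perm ↥Q :=
    { toFun := fun q => ⟨z * q.1 * z, hzQ q.1 q.2⟩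
      invFun := fun q => ⟨z * q.1 * z, hzQ q.1 q.2⟩
      left_inv := fun q => Subtype.ext (by
        show z * (z * q.1 * z) * z = q.1
        rw [show z * (z * q.1 * z) * z = z * z * q.1 * (z * z) by group, hz.1, one_mul, mul_one])
      right_inv := fun q => Subtype.ext (by
        show z * (z * q.1 * z) * z = q.1
        rw [show z * (z * q.1 * z) * z = z * z * q.1 * (z * z) by group, hz.1, one_mul, mul_one]) }
  obtain ⟨q, hq, hq1⟩ : ∃ q : ↥Q, σ q = q ∧ q ≠ 1 := by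
    haveI := Fintype.ofFinite ↥Q
    refine Equiv.Perm.exists_fixed_point_of_prime' (p := 2) (n := 1) ?_ ?_
      (Subtype.ext (show z * 1 * z = 1 by rw [mul_one, hz.1]))
    · rw [← Nat.card_eq_fintype_card, ← hsI.orderOf, ← Subgroup.orderOf_mk s (show s ∈ Q from ⟨hs.1, hsP⟩)]
      exact orderOf_dvd_natCard _
    · rw [pow_one, pow_two]
      exact Equiv.ext fun q => σ.left_inv q
  have hqz : Commute q.1 z := by
    have e : z * q.1 * z = q.1 := congrArg Subtype.val hq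
    calc q.1 * z = z * q.1 * z * z := by rw [e]
      _ = z * q.1 := by rw [mul_assoc (z * q.1), hz.1, mul_one]
  obtain ⟨k, hk⟩ := hP ⟨q.1, q.2.2⟩
  have hk' : q.1 ^ 2 ^ k = 1 := congrArg Subtype.val hk
  obtain ⟨j, -, hj⟩ := (Nat.dvd_prime_pow Nat.prime_two).1 (orderOf_dvd_of_pow_eq_one hk')
  obtain ⟨m, hm⟩ := exists_invol_pow (x := q.1) (by
    rw [hj]
    refine Nat.even_pow.2 ⟨even_two, fun e => hq1 (Subtype.ext (orderOf_eq_one_iff.1 ?_))⟩
    rw [hj, e, pow_zero])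
  have hqx : Commute q.1 x := mem_centralizer_singleton_iff.1 q.2.1
  exact hfix _ hm (hqx.pow_left m) (hqz.pow_left m) (hPfix _ (P.pow_mem q.2.2 m))

/-- An involution commuting with another one fixes its fixed points. -/
theorem Hyp.fix_le_of_commute {a i : Γ} (ha : Invol a) (hi : Invol i) (hai : Commute a i) {v : V}
    (hv : a • v = v) : i • v = v := by
  classical
  haveI : Fact (Nat.Prime 2) := ⟨Nat.prime_two⟩
  by_cases hv0 : v = 0
  · rw [hv0, smul_zero]
  obtain ⟨x, hx1, hxo, hax⟩ := H.exists_inverted ha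
  have hCx := H.odd_card_centralizer ha hxo hx1 hax
  set C := centralizer ({a} : Set Γ) with hC
  let O : Subgroup ↥C := Cfsg.pCore 2 ↥C
  have haC : a ∈ C := mem_centralizer_singleton_iff.2 rfl
  have hiC : i ∈ C := mem_centralizer_singleton_iff.2 hai.symm.eq
  have hCa : ∀ g : ↥C, Commute (g : Γ) a := fun g => mem_centralizer_singleton_iff.1 g.2
  have haO : (⟨a, haC⟩ : ↥C) ∈ O := by
    have : (zpowers (⟨a, haC⟩ : ↥C)).Normal := ⟨fun n hn g => by
      obtain ⟨j, rfl⟩ := mem_zpowers_iff.1 hn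
      rw [← conj_zpow, show g * ⟨a, haC⟩ * g⁻¹ = (⟨a, haC⟩ : ↥C) from Subtype.ext (by
        show g.1 * a * g.1⁻¹ = a
        rw [(hCa g).eq, mul_inv_cancel_right])]
      exact zpow_mem (mem_zpowers _) j⟩
    exact CfsgLib.Solvable.Cores.le_pCore (IsPGroup.of_card (n := 1) (by
      rw [Nat.card_zpowers, ← Subgroup.orderOf_coe]
      show orderOf a = 2 ^ 1
      rw [ha.orderOf, pow_one])) (mem_zpowers _)
  have hiO : (⟨i, hiC⟩ : ↥C) ∈ O := by
    by_contra hiO
    obtain ⟨y, hy1, hyo, hiy⟩ := CfsgLib.Involution.BaerSuzuki.exists_inverted_odd (⟨i, hiC⟩ : ↥C)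
      (by rw [← Subgroup.orderOf_coe]; exact hi.orderOf)
      (fun M hM hM2 hiM => hiO (by haveI := hM; exact CfsgLib.Solvable.Cores.le_pCore hM2 hiM))
    have hodd := H.odd_card_centralizer (x := (y : Γ)) hi (by rw [Subgroup.orderOf_coe]; exact hyo)
      (fun e => hy1 (Subtype.ext e)) (congrArg Subtype.val hiy)
    have h2 : 2 ∣ Nat.card (centralizer ({(y : Γ)} : Set Γ)) := by
      rw [← ha.orderOf, ← Subgroup.orderOf_mk a (mem_centralizer_singleton_iff.2 (hCa y).symm.eq :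
        a ∈ centralizer ({(y : Γ)} : Set Γ))]
      exact orderOf_dvd_natCard _
    exact Nat.not_even_iff_odd.2 hodd (even_iff_two_dvd.2 h2)
  let R : Subgroup Γ := O.map C.subtype
  have hR : IsPGroup 2 R := (CfsgLib.Solvable.Cores.isPGroup_pCore 2).map _
  have haR : a ∈ R := mem_map_of_mem C.subtype haO
  have hiR : i ∈ R := mem_map_of_mem C.subtype hiO
  obtain ⟨v₁, hv₁⟩ := H.nt
  obtain ⟨g, hg⟩ := H.exists_fixed_in_orbit hR hv₁
  set u := g • v₁ with hu
  have hu0 : u ≠ 0 := H.smul_ne_zero' hv₁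
  obtain ⟨P, hP, hPi, hPfix, hPn⟩ := H.syl v hv0
  obtain ⟨h, hh⟩ := H.exists_fixed_in_orbit hP hu0
  set u' := h • u with hu'
  have haP : a ∈ P := mem_of_two_element hP hPi (hPn a hv) (isPGroup_zpowers_invol ha)
  obtain ⟨c₀, hc₀, hc₀u⟩ := H.trans x a hxo hax hx1 u h
  let T := {c : Γ // Commute c x ∧ c • u = u'}
  let σ : T → T := fun c => ⟨a * c.1 * a, by
    have e1 : a * x = x⁻¹ * a := mul_inv_eq_iff_eq_mul.1 hax
    have e2 : a * x⁻¹ = x * a := mul_inv_eq_iff_eq_mul.1 (conj_twice hax)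
    calc a * c.1 * a * x = a * c.1 * (a * x) := by group
      _ = a * (c.1 * x⁻¹) * a := by rw [e1]; group
      _ = a * (x⁻¹ * c.1) * a := by rw [c.2.1.inv_right.eq]
      _ = a * x⁻¹ * c.1 * a := by group
      _ = x * (a * c.1 * a) := by rw [e2]; group, by
    rw [mul_smul, mul_smul, hg a haR, c.2.2, hh a haP]⟩
  have hσ : ∀ c, σ (σ c) = c := fun c => Subtype.ext (by
    show a * (a * c.1 * a) * a = c.1
    rw [show a * (a * c.1 * a) * a = a * a * c.1 * (a * a) by group, ha.1, one_mul, mul_one])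
  have hTcard : Nat.card T =
      Nat.card ↥(centralizer ({x} : Set Γ) ⊓ MulAction.stabilizer Γ u) :=
    Nat.card_congr
      { toFun := fun c => ⟨c₀⁻¹ * c.1, mem_centralizer_singleton_iff.2
            ((hc₀.inv_left.mul_left c.2.1).eq), by
          show (c₀⁻¹ * c.1) • u = u
          rw [mul_smul, c.2.2, inv_smul_eq_iff, hc₀u]⟩
        invFun := fun s => ⟨c₀ * s.1, hc₀.mul_left (mem_centralizer_singleton_iff.1 s.2.1), by
          rw [mul_smul, MulAction.mem_stabilizer_iff.1 s.2.2, hc₀u]⟩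
        left_inv := fun c => Subtype.ext (mul_inv_cancel_left _ _)
        right_inv := fun s => Subtype.ext (inv_mul_cancel_left _ _) }
  obtain ⟨⟨c, hcx, hcu⟩, hc⟩ := exists_fixed_of_odd (α := T) (by
      rw [hTcard]; exact hCx.of_dvd_nat (card_dvd_of_le inf_le_left))
    (n := 1) (Function.Involutive.toPerm σ hσ) (by
      rw [pow_one, pow_two]; exact Equiv.ext hσ)
  have hca : Commute c a := by
    have e : a * c * a = c := congrArg Subtype.val hc
    calc c * a = a * c * a * a := by rw [e]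
      _ = a * c := by rw [mul_assoc (a * c), ha.1, mul_one]
  have hu'0 : u' ≠ 0 := H.smul_ne_zero' hu0
  obtain ⟨P', hP', hP'i, hP'fix, hP'n⟩ := H.syl u' hu'0
  have hPP : P ≤ P' := fun p hp => mem_of_two_element hP' hP'i (hP'n p (hh p hp))
    (hP.to_le (zpowers_le.2 hp))
  have hP'P : P' ≤ P := by
    have := (hP.toSylow (by rw [← even_iff_two_dvd]; exact Nat.not_even_iff_odd.2 hPi)).is_maximal'
      hP' hPP
    exact this.le
  have hcc : (⟨c, mem_centralizer_singleton_iff.2 hca.eq⟩ : ↥C)⁻¹ * ⟨i, hiC⟩ *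
      (⟨c, mem_centralizer_singleton_iff.2 hca.eq⟩ : ↥C)⁻¹⁻¹ ∈ O :=
    (CfsgLib.Solvable.Cores.pCore_normal 2).conj_mem _ hiO _
  have hfixu : (c⁻¹ * i * c⁻¹⁻¹) • u = u := hg _ (mem_map_of_mem C.subtype hcc)
  have hiu' : i • u' = u' := by
    rw [inv_inv, mul_smul, hcu, mul_smul, inv_smul_eq_iff, hcu] at hfixu
    exact hfixu
  exact hPfix i (hP'P (mem_of_two_element hP' hP'i (hP'n i hiu') (isPGroup_zpowers_invol hi)))

end CfsgLib.FTApps.RealGraph
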