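import Cfsg.Agent.Lib.FTApps.RealGraph.Quot
import Cfsg.Agent.Lib.Fusion.PSolvable
import Cfsg.Agent.Lib.PGroup.FrobeniusCount

/-! A group with disconnected real class size graph is solvable. -/

set_option autoImplicit false
set_option linter.style.haveILetI false
set_option linter.unusedSectionVars false

namespace CfsgLib.FTApps.RealGraph

open Subgroup

variable {G : Type*} [Group G] [Finite G] {P : ℕ → Prop}

theorem card_class (t : G) : Nat.card {z : G // IsConj t z} = idx t := by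
  refine Nat.eq_of_mul_eq_mul_right (Nat.card_pos (α := centralizer ({t} : Set G))) ?_
  rw [CfsgLib.PGroup.FrobeniusCount.card_conj_mul_card_centralizer, idx, mul_comm,
    Subgroup.card_mul_index]

theorem self_coprime_elim {a : G} (h : (idx a).Coprime (idx a)) : idx a = 1 :=
  (Nat.coprime_self _).1 h

/-- No element of an elementary abelian normal closure of `t` is of type B. -/
theorem not_typeB_of_mem (hP2 : P 2) (hS : Split G P) {t b : G} (ht : Invol t) (hA : TypeA P t)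
    (V₀ : Subgroup G) [V₀.Normal] (hV : V₀ = normalClosure {t})
    (hcomm : ∀ a ∈ V₀, ∀ c ∈ V₀, a * c = c * a) (hsq : ∀ a ∈ V₀, a * a = 1) (hb : b ∈ V₀) :
    ¬ TypeB P b := by
  classical
  intro hB
  have htV : t ∈ V₀ := hV ▸ subset_normalClosure rfl
  have hcV : ∀ (g v : G), v ∈ V₀ → g * v * g⁻¹ ∈ V₀ := fun g v hv =>
    (inferInstance : V₀.Normal).conj_mem v hv g
  set v := t * b with hv
  have hvV : v ∈ V₀ := mul_mem htV hb
  have hreal : (1 : G) * v * 1⁻¹ = v⁻¹ := by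
    rw [one_mul, inv_one, mul_one, inv_eq_of_mul_eq_one_right (hsq v hvV)]
  have hvb : v * b = t := by rw [hv, mul_assoc, hsq b hb, mul_one]
  have hvt : v * t = b := by rw [hv, hcomm t htV b hb, mul_assoc, ht.1, mul_one]
  by_cases hv1 : idx v = 1
  · refine hA.1 (idx_eq_one_of_comm fun g => ?_)
    obtain ⟨c, hcb, hct⟩ := factor_conj (hA.coprime hB).symm g
    have e := comm_of_idx_eq_one hv1 c
    rw [hv, show c * (t * b) * c⁻¹ = c * t * c⁻¹ * (c * b * c⁻¹) by group, hcb, hct] at e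
    exact mul_right_cancel e
  rcases hS v 1 hreal with hvB | hvA
  · -- translations by products of conjugates of `t` preserve the class of `b`
    have hvB' : TypeB P v := ⟨hv1, hvB⟩
    let D : Subgroup G :=
      { carrier := {d | d ∈ V₀ ∧ ∀ g : G, ∃ h : G, g * b * g⁻¹ * d = h * b * h⁻¹}
        one_mem' := ⟨one_mem _, fun g => ⟨g, mul_one _⟩⟩
        mul_mem' := by
          rintro d d' ⟨hd, hd'⟩ ⟨he, he'⟩
          refine ⟨mul_mem hd he, fun g => ?_⟩
          obtain ⟨h, hh⟩ := hd' g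
          obtain ⟨k, hk⟩ := he' h
          exact ⟨k, by rw [← mul_assoc, hh, hk]⟩
        inv_mem' := by
          rintro d ⟨hd, hd'⟩
          rw [inv_eq_of_mul_eq_one_right (hsq d hd)]
          exact ⟨hd, hd'⟩ }
    have hgen : ∀ g : G, t * (g * t * g⁻¹) ∈ D := by
      intro g
      refine ⟨mul_mem htV (hcV g t htV), fun g₁ => ?_⟩
      obtain ⟨c, hct, hcb⟩ := factor_conj (hA.coprime hB) g₁
      obtain ⟨d, hdv, hdt⟩ := factor_conj (hA.coprime hvB').symm (c⁻¹ * g)
      refine ⟨c * d, ?_⟩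
      calc g₁ * b * g₁⁻¹ * (t * (g * t * g⁻¹))
          = c * b * c⁻¹ * (c * t * c⁻¹) * (c * (c⁻¹ * g * t * (c⁻¹ * g)⁻¹) * c⁻¹) := by
            rw [← hcb, hct]; group
        _ = c * (b * t * (c⁻¹ * g * t * (c⁻¹ * g)⁻¹)) * c⁻¹ := by group
        _ = c * (v * (d * t * d⁻¹)) * c⁻¹ := by rw [hdt, hcomm b hb t htV]
        _ = c * (d * v * d⁻¹ * (d * t * d⁻¹)) * c⁻¹ := by rw [hdv]
        _ = c * d * (v * t) * (c * d)⁻¹ := by group
        _ = c * d * b * (c * d)⁻¹ := by rw [hvt]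
    let U : Subgroup G :=
      { carrier := {u | u ∈ V₀ ∧ (u ∈ D ∨ t * u ∈ D)}
        one_mem' := ⟨one_mem _, Or.inl (one_mem _)⟩
        mul_mem' := by
          rintro x y ⟨hx, hx'⟩ ⟨hy, hy'⟩
          refine ⟨mul_mem hx hy, ?_⟩
          rcases hx' with hx' | hx' <;> rcases hy' with hy' | hy'
          · exact Or.inl (mul_mem hx' hy')
          · refine Or.inr ?_
            rw [← mul_assoc, hcomm t htV x hx, mul_assoc]
            exact mul_mem hx' hy'
          · refine Or.inr ?_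
            rw [← mul_assoc]
            exact mul_mem hx' hy'
          · refine Or.inl ?_
            have e : t * x * (t * y) = x * y := by
              rw [hcomm t htV x hx, mul_assoc, ← mul_assoc t t y, ht.1, one_mul]
            rw [← e]
            exact mul_mem hx' hy'
        inv_mem' := by
          rintro x ⟨hx, hx'⟩
          rw [inv_eq_of_mul_eq_one_right (hsq x hx)]
          exact ⟨hx, hx'⟩ }
    have hle : normalClosure {t} ≤ U := (closure_le _).2 fun z hz => by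
      obtain ⟨_, rfl, hc⟩ := Group.mem_conjugatesOfSet_iff.1 hz
      obtain ⟨g, rfl⟩ := isConj_iff.1 hc
      exact ⟨hcV g _ htV, Or.inr (hgen g)⟩
    rcases (hle (hV ▸ hb)).2 with h | h
    · obtain ⟨k, hk⟩ := h.2 1
      rw [one_mul, inv_one, mul_one, hsq b hb] at hk
      refine hB.1 (idx_eq_one_of_comm fun g => ?_)
      have e : b = 1 := by
        calc b = k⁻¹ * (k * b * k⁻¹) * k := by group
          _ = 1 := by rw [← hk, mul_one, inv_mul_cancel]
      rw [e, mul_one, mul_inv_cancel]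
    · obtain ⟨k, hk⟩ := h.2 1
      rw [one_mul, inv_one, mul_one, hcomm t htV b hb, ← mul_assoc, hsq b hb, one_mul] at hk
      refine hA.1 (self_coprime_elim ?_)
      have := hA.coprime hB
      rwa [← idx_conj k b, ← hk] at this
  · -- translations by products of conjugates of `b` preserve the class of `t`
    have hvA' : TypeA P v := ⟨hv1, hvA⟩
    have hgen : ∀ g g₁ : G, ∃ h : G, g₁ * t * g₁⁻¹ * (b * (g * b * g⁻¹)) = h * t * h⁻¹ := by
      intro g g₁
      obtain ⟨c, hcb, hct⟩ := factor_conj (hA.coprime hB).symm g₁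
      obtain ⟨d, hdv, hdb⟩ := factor_conj (hvA'.coprime hB) (c⁻¹ * g)
      refine ⟨c * d, ?_⟩
      calc g₁ * t * g₁⁻¹ * (b * (g * b * g⁻¹))
          = c * t * c⁻¹ * (c * b * c⁻¹) * (c * (c⁻¹ * g * b * (c⁻¹ * g)⁻¹) * c⁻¹) := by
            rw [← hct, hcb]; group
        _ = c * (v * (c⁻¹ * g * b * (c⁻¹ * g)⁻¹)) * c⁻¹ := by rw [hv]; group
        _ = c * (d * v * d⁻¹ * (d * b * d⁻¹)) * c⁻¹ := by rw [hdb, hdv]
        _ = c * d * (v * b) * (c * d)⁻¹ := by group
        _ = c * d * t * (c * d)⁻¹ := by rw [hvb]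
    refine hB.1 (idx_eq_one_of_comm fun g => ?_)
    set d := b * (g * b * g⁻¹) with hd
    have hdV : d ∈ V₀ := mul_mem hb (hcV g b hb)
    let Ω := {z : G // IsConj t z}
    let σ : Ω → Ω := fun z => ⟨z.1 * d, by
      obtain ⟨g₁, hg₁⟩ := isConj_iff.1 z.2
      obtain ⟨h, hh⟩ := hgen g g₁
      exact isConj_iff.2 ⟨h, by rw [← hh, hg₁]⟩⟩
    have hσ : ∀ z, σ (σ z) = z := fun z => Subtype.ext (by
      show z.1 * d * d = z.1
      rw [mul_assoc, hsq d hdV, mul_one])
    have hcard : Nat.card Ω = idx t := card_class t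
    obtain ⟨z, hz⟩ := exists_fixed_of_odd (α := Ω) (by rw [hcard]; exact hA.odd hP2) (n := 1)
      (Function.Involutive.toPerm σ hσ) (by rw [pow_one, pow_two]; exact Equiv.ext hσ)
    have hd1 : d = 1 := mul_eq_left.1 (congrArg Subtype.val hz)
    rw [hd] at hd1
    rw [eq_inv_of_mul_eq_one_right hd1, inv_eq_of_mul_eq_one_right (hsq b hb)]

/-- Without odd order normal subgroups an involution of type A lies in the 2-core. -/
theorem mem_pCore_of_core_free (hP2 : P 2) (hS : Split G P) {t : G} (ht : Invol t) (hA : TypeA P t)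
    (hO : ∀ N : Subgroup G, N.Normal → Odd (Nat.card N) → N = ⊥) : t ∈ Cfsg.pCore 2 G := by
  classical
  haveI : Fact (Nat.Prime 2) := ⟨Nat.prime_two⟩
  obtain ⟨R, hRn, hRsol, htR⟩ := exists_solvable_normal hP2 hS ht hA
  haveI := hRn
  haveI := hRsol
  obtain ⟨S, hS2, hSi, hSC, -⟩ := exists_syl hP2 hS ht.1 hA
  have hOC : ∀ o ∈ Cfsg.pCore 2 G, o * t = t * o := fun o ho =>
    mem_centralizer_singleton_iff.1 (hSC (CfsgLib.Solvable.Cores.pCore_le_sylow
      (hS2.toSylow (by rw [← even_iff_two_dvd]; exact Nat.not_even_iff_odd.2 hSi)) ho))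
  have hpp : Cfsg.pPrimeCore 2 ↥R = ⊥ := by
    have h1 := hO ((Cfsg.pPrimeCore 2 ↥R).map R.subtype) inferInstance (by
      rw [card_map_of_injective R.subtype_injective]
      exact Nat.coprime_two_right.1 (CfsgLib.Solvable.Cores.coprime_card_pPrimeCore 2))
    exact (map_eq_bot_iff_of_injective _ R.subtype_injective).1 h1
  have hle : (Cfsg.pCore 2 ↥R).map R.subtype ≤ Cfsg.pCore 2 G :=
    CfsgLib.Solvable.Cores.le_pCore ((CfsgLib.Solvable.Cores.isPGroup_pCore 2).map _)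
  exact hle (mem_map_of_mem R.subtype
    (CfsgLib.Fusion.PSolvable.centralizer_pCore_le CfsgLib.Fusion.PSolvable.psolvable_of_solvable hpp
      (mem_centralizer_iff.2 fun o ho => Subtype.ext (hOC _ (hle (mem_map_of_mem R.subtype ho))))
      : (⟨t, htR⟩ : ↥R) ∈ Cfsg.pCore 2 ↥R))

/-- The facts about the elementary abelian normal closure of an involution of type A in the 2-core. -/
theorem closure_data (hP2 : P 2) (hS : Split G P) {t : G} (ht : Invol t) (hA : TypeA P t)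
    (htO : t ∈ Cfsg.pCore 2 G) :
    (∀ a ∈ normalClosure ({t} : Set G), ∀ c ∈ normalClosure ({t} : Set G), a * c = c * a) ∧
      (∀ a ∈ normalClosure ({t} : Set G), a * a = 1) ∧
      (∀ v ∈ normalClosure ({t} : Set G), v ∉ center G → TypeA P v) := by
  classical
  haveI : Fact (Nat.Prime 2) := ⟨Nat.prime_two⟩
  obtain ⟨S, hS2, hSi, hSC, -⟩ := exists_syl hP2 hS ht.1 hA
  have hOC : ∀ o ∈ Cfsg.pCore 2 G, o * t = t * o := fun o ho =>
    mem_centralizer_singleton_iff.1 (hSC (CfsgLib.Solvable.Cores.pCore_le_sylow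
      (hS2.toSylow (by rw [← even_iff_two_dvd]; exact Nat.not_even_iff_odd.2 hSi)) ho))
  have hOcomm : ∀ g : G, ∀ o ∈ Cfsg.pCore 2 G, Commute (g * t * g⁻¹) o := fun g o ho => by
    have h1 := hOC _ ((inferInstance : (Cfsg.pCore 2 G).Normal).conj_mem o ho g⁻¹)
    rw [inv_inv] at h1
    calc g * t * g⁻¹ * o = g * (t * (g⁻¹ * o * g)) * g⁻¹ := by group
      _ = g * (g⁻¹ * o * g * t) * g⁻¹ := by rw [h1]
      _ = o * (g * t * g⁻¹) := by group
  let E : Subgroup G :=
    { carrier := {v | v ∈ Cfsg.pCore 2 G ∧ (∀ o ∈ Cfsg.pCore 2 G, Commute v o) ∧ v * v = 1}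
      one_mem' := ⟨one_mem _, fun o _ => Commute.one_left o, one_mul 1⟩
      mul_mem' := by
        rintro a b ⟨ha, ha', ha''⟩ ⟨hb, hb', hb''⟩
        exact ⟨mul_mem ha hb, fun o ho => (ha' o ho).mul_left (hb' o ho), by
          rw [← pow_two, (ha' b hb).mul_pow, pow_two, pow_two, ha'', hb'', one_mul]⟩
      inv_mem' := by
        rintro a ⟨ha, ha', ha''⟩
        rw [inv_eq_of_mul_eq_one_right ha'']
        exact ⟨ha, ha', ha''⟩ }
  set V₀ := normalClosure ({t} : Set G) with hV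
  have hVE : V₀ ≤ E := (closure_le _).2 fun z hz => by
    obtain ⟨_, rfl, hc⟩ := Group.mem_conjugatesOfSet_iff.1 hz
    obtain ⟨g, rfl⟩ := isConj_iff.1 hc
    exact ⟨(inferInstance : (Cfsg.pCore 2 G).Normal).conj_mem _ htO g, hOcomm g, (ht.conj g).1⟩
  have hcomm : ∀ a ∈ V₀, ∀ c ∈ V₀, a * c = c * a := fun a ha c hc => (hVE ha).2.1 c (hVE hc).1
  have hsq : ∀ a ∈ V₀, a * a = 1 := fun a ha => (hVE ha).2.2
  have htype : ∀ v ∈ V₀, v ∉ center G → TypeA P v := by
    intro v hv hvc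
    have hv1 : idx v ≠ 1 := fun e => hvc (mem_center_iff.2 fun g =>
      mul_inv_eq_iff_eq_mul.1 (comm_of_idx_eq_one e g))
    rcases hS v 1 (by rw [one_mul, inv_one, mul_one, inv_eq_of_mul_eq_one_right (hsq v hv)]) with h | h
    · exact absurd ⟨hv1, h⟩ (not_typeB_of_mem hP2 hS ht hA V₀ hV hcomm hsq hv)
    · exact ⟨hv1, h⟩
  exact ⟨hcomm, hsq, htype⟩

/-- A translation by a central involution fixes no class of odd size. -/
theorem eq_of_conj_central {v z g : G} (hodd : Odd (idx v)) (hzc : z ∈ center G) (hz2 : z * z = 1)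
    (hg : g * v * g⁻¹ = z * v) : z = 1 := by
  let Ω := {w : G // IsConj v w}
  let σ : Ω → Ω := fun w => ⟨z * w.1, by
    obtain ⟨h, hh⟩ := isConj_iff.1 w.2
    refine isConj_iff.2 ⟨h * g, ?_⟩
    calc h * g * v * (h * g)⁻¹ = h * (g * v * g⁻¹) * h⁻¹ := by group
      _ = h * z * v * h⁻¹ := by rw [hg]; group
      _ = z * (h * v * h⁻¹) := by rw [mem_center_iff.1 hzc h]; group
      _ = z * w.1 := by rw [hh]⟩
  have hσ : ∀ w, σ (σ w) = w := fun w => Subtype.ext (by
    show z * (z * w.1) = w.1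
    rw [← mul_assoc, hz2, one_mul])
  obtain ⟨w, hw⟩ := exists_fixed_of_odd (α := Ω) (by rw [card_class]; exact hodd) (n := 1)
    (Function.Involutive.toPerm σ hσ) (by rw [pow_one, pow_two]; exact Equiv.ext hσ)
  exact mul_eq_right.1 (congrArg Subtype.val hw)

/-- An involution of type A in the 2-core gives a section on which the group acts. -/
theorem exists_section (hP2 : P 2) (hS : Split G P) {t : G} (ht : Invol t) (hA : TypeA P t)
    (htO : t ∈ Cfsg.pCore 2 G) :
    ∃ v₀ : G, v₀ ∈ Cfsg.pCore 2 G ∧ v₀ * v₀ = 1 ∧ TypeA P v₀ ∧ Group.IsSolvable G ∧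
      ∃ X : Subgroup G, ∃ _ : X.Normal, Odd ((Cfsg.pCore 2 G).relIndex X) ∧
        Odd (Cfsg.pCore 2 (G ⧸ X)).index := by
  classical
  obtain ⟨hcomm, hsq, htype⟩ := closure_data hP2 hS ht hA htO
  set V₀ := normalClosure ({t} : Set G) with hV
  set Z := V₀ ⊓ center G with hZ
  haveI : Z.Normal := normal_inf_normal _ _
  have htV : t ∈ V₀ := subset_normalClosure rfl
  have htc : t ∉ center G := fun h => hA.1 (idx_eq_one_of_comm fun g =>
    mul_inv_eq_iff_eq_mul.2 (mem_center_iff.1 h g))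
  have hlt : Z < V₀ := lt_of_le_of_ne inf_le_left fun e => htc (e.symm ▸ htV : t ∈ Z).2
  obtain ⟨W, ⟨hWn, hZW, hWV⟩, hWmin⟩ := Set.Finite.exists_minimal
    (s := {W : Subgroup G | W.Normal ∧ Z < W ∧ W ≤ V₀}) (Set.toFinite _)
    ⟨V₀, normalClosure_normal, hlt, le_rfl⟩
  haveI := hWn
  obtain ⟨v₀, hv₀, hv₀Z⟩ := SetLike.exists_of_lt hZW
  have hA' : ∀ v ∈ W, v ∉ Z → TypeA P v := fun v hv hvZ =>
    htype v (hWV hv) fun hc => hvZ ⟨hWV hv, hc⟩
  refine ⟨v₀, normalClosure_le_normal (fun z hz => by rw [Set.mem_singleton_iff.1 hz]; exact htO)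
      (hWV hv₀), hsq v₀ (hWV hv₀), hA' v₀ hv₀ hv₀Z,
    section_structure hP2 hS Z W (fun a ha b hb => hcomm a (hWV ha) b (hWV hb))
      (fun a ha => hsq a (hWV ha)) hv₀ hv₀Z hA' ?_ (fun U hU h1 h2 =>
      le_antisymm h2 (hWmin ⟨hU, h1, h2.trans hWV⟩ h2)) hZW.le⟩
  intro v hv hvZ g hg
  exact mul_inv_eq_one.1 (eq_of_conj_central ((hA' v hv hvZ).odd hP2) hg.2 (hsq _ hg.1)
    (g := g) (by group))

/-- A group with an involution of type A and no odd order normal subgroup. -/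
theorem solvable_of_core_free (hP2 : P 2) (hS : Split G P) {t : G} (ht : Invol t) (hA : TypeA P t)
    (hO : ∀ N : Subgroup G, N.Normal → Odd (Nat.card N) → N = ⊥) : Group.IsSolvable G := by
  obtain ⟨-, -, -, -, h, -⟩ :=
    exists_section hP2 hS ht hA (mem_pCore_of_core_free hP2 hS ht hA hO)
  exact h

theorem split_quotient (hS : Split G P) (N : Subgroup G) [N.Normal] (hN : Odd (Nat.card N)) :
    Split (G ⧸ N) P := by
  intro y g hg
  obtain ⟨u, h, rfl, hh⟩ := lift_odd (QuotientGroup.mk' N) (QuotientGroup.mk'_surjective N)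
    (by rwa [QuotientGroup.ker_mk']) hg
  have hd : idx (QuotientGroup.mk' N u) ∣ idx u := by
    refine dvd_trans (index_dvd_of_le ?_) (index_map_dvd _ (QuotientGroup.mk'_surjective N))
    rintro _ ⟨c, hc, rfl⟩
    rw [mem_centralizer_singleton_iff, ← map_mul, ← map_mul, mem_centralizer_singleton_iff.1 hc]
  exact (hS u h hh).imp (fun H q hq hqd => H q hq (hqd.trans hd))
    (fun H q hq hqd => H q hq (hqd.trans hd))

universe u

theorem solvable_of_typeA (hP2 : P 2) (n : ℕ) : ∀ (G : Type u) [Group G] [Finite G],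
    Nat.card G = n → Split G P → ∀ t : G, Invol t → TypeA P t → Group.IsSolvable G := by
  induction n using Nat.strong_induction_on with
  | _ n ih =>
  intro G _ _ hn hS t ht hA
  by_cases hO : ∀ N : Subgroup G, N.Normal → Odd (Nat.card N) → N = ⊥
  · exact solvable_of_core_free hP2 hS ht hA hO
  push Not at hO
  obtain ⟨N, hNn, hNo, hNb⟩ := hO
  haveI := hNn
  haveI : Group.IsSolvable N := solvable_of_odd hNo
  set f := QuotientGroup.mk' N
  by_cases hcent : idx (f t) = 1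
  · refine solvable_of_odd_normal_comm ht N hNo (fun g => ?_) (solvable_centralizer hP2 hS ht.1 hA)
    refine (QuotientGroup.eq_one_iff _).1 ?_
    show f (t * g * t⁻¹ * g⁻¹) = 1
    rw [show t * g * t⁻¹ * g⁻¹ = t * (g * t⁻¹ * g⁻¹) by group, ht.inv, map_mul f t, map_mul, map_mul,
      map_inv, comm_of_idx_eq_one hcent, ← map_mul, ht.1, map_one]
  have hd : idx (f t) ∣ idx t := by
    refine dvd_trans (index_dvd_of_le ?_) (index_map_dvd _ (QuotientGroup.mk'_surjective N))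
    rintro _ ⟨c, hc, rfl⟩
    rw [mem_centralizer_singleton_iff, ← map_mul, ← map_mul, mem_centralizer_singleton_iff.1 hc]
  have htA : TypeA P (f t) := ⟨hcent, fun q hq hqd => hA.2 q hq (hqd.trans hd)⟩
  have htI : Invol (f t) := ⟨by rw [← map_mul, ht.1, map_one],
    fun e => hcent (idx_eq_one_of_comm fun g => by rw [e, mul_one, mul_inv_cancel])⟩
  have hlt : Nat.card (G ⧸ N) < n := by
    rw [← hn, card_eq_card_quotient_mul_card_subgroup N]
    exact lt_mul_of_one_lt_right Nat.card_pos (N.one_lt_card_iff_ne_bot.2 hNb)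
  haveI : Group.IsSolvable (G ⧸ N) := ih _ hlt (G ⧸ N) rfl (split_quotient hS N hNo) _ htI htA
  exact Group.isSolvable_of_ker_le_range N.subtype f (by simp [f])

/-- A disconnected graph gives a set of primes containing 2 and an involution of type A, provided
some real class size is even. -/
theorem exists_typeA {G : Type u} [Group G] [Finite G] (π π' : Set ℕ) (hπ2 : 2 ∈ π)
    (hn' : π'.Nonempty)
    (h' : ∀ q ∈ π', q.Prime ∧ ∃ x g : G, g * x * g⁻¹ = x⁻¹ ∧ q ∣ idx x)
    (hcov : ∀ (x g : G) (q : ℕ), g * x * g⁻¹ = x⁻¹ → q.Prime → q ∣ idx x → q ∈ π ∨ q ∈ π')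
    (hno : ∀ (x g : G), g * x * g⁻¹ = x⁻¹ → ∀ a ∈ π, ∀ b ∈ π', ¬ (a ∣ idx x ∧ b ∣ idx x)) :
    Split G (· ∈ π) ∧ ∃ t : G, Invol t ∧ TypeA (· ∈ π) t := by
  have hS : Split G (· ∈ π) := by
    intro y k hk
    by_cases hall : ∀ q : ℕ, q.Prime → q ∣ idx y → ¬ q ∈ π
    · exact Or.inr hall
    push Not at hall
    obtain ⟨a, -, hay, ha⟩ := hall
    refine Or.inl fun q hq hqd => ?_
    rcases hcov y k q hk hq hqd with h | h
    · exact h
    · exact absurd ⟨hay, hqd⟩ (hno y k hk a ha q h)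
  obtain ⟨q, hq⟩ := hn'
  obtain ⟨hqp, t, k, hk, hqt⟩ := h' q hq
  have hA : TypeA (· ∈ π) t :=
    ⟨fun e => hqp.one_lt.ne' (Nat.eq_one_of_dvd_one (e ▸ hqt)),
      fun r _ hrd hr => hno t k hk r hr q hq ⟨hrd, hqt⟩⟩
  refine ⟨hS, t, ⟨?_, fun e => hA.1 (idx_eq_one_of_comm fun g => by
    rw [e, mul_one, mul_inv_cancel])⟩, hA⟩
  by_contra h
  exact hA.2 2 Nat.prime_two (two_dvd_idx hk h) hπ2

/-- A group whose real class sizes split into two nonempty parts is solvable. -/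
theorem solvable_of_disconnected {G : Type u} [Group G] [Finite G] (π₁ π₂ : Set ℕ)
    (h₁ : ∀ q ∈ π₁, q.Prime ∧ ∃ x g : G, g * x * g⁻¹ = x⁻¹ ∧ q ∣ idx x)
    (h₂ : ∀ q ∈ π₂, q.Prime ∧ ∃ x g : G, g * x * g⁻¹ = x⁻¹ ∧ q ∣ idx x)
    (hn₁ : π₁.Nonempty) (hn₂ : π₂.Nonempty)
    (hcov : ∀ (x g : G) (q : ℕ), g * x * g⁻¹ = x⁻¹ → q.Prime → q ∣ idx x → q ∈ π₁ ∨ q ∈ π₂)
    (hno : ∀ (x g : G), g * x * g⁻¹ = x⁻¹ → ∀ a ∈ π₁, ∀ b ∈ π₂, ¬ (a ∣ idx x ∧ b ∣ idx x)) :
    Group.IsSolvable G := by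
  by_cases hnr : RealTwoPart.NoReal G
  · exact solvable_of_noReal hnr
  simp only [RealTwoPart.NoReal, not_forall] at hnr
  obtain ⟨x, g, ho, hg, hx⟩ := hnr
  have h2 := two_dvd_idx hg fun e => hx (eq_one_of_odd_sq ho e)
  rcases hcov x g 2 hg Nat.prime_two h2 with h | h
  · obtain ⟨hS, t, ht, hA⟩ := exists_typeA π₁ π₂ h hn₂ h₂ hcov hno
    exact solvable_of_typeA (P := (· ∈ π₁)) h _ G rfl hS t ht hA
  · obtain ⟨hS, t, ht, hA⟩ := exists_typeA π₂ π₁ h hn₁ h₁ (fun x g q a b c => (hcov x g q a b c).symm)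
      (fun x g hx a ha b hb ⟨i, j⟩ => hno x g hx b hb a ha ⟨j, i⟩)
    exact solvable_of_typeA (P := (· ∈ π₂)) h _ G rfl hS t ht hA

end CfsgLib.FTApps.RealGraph
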