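import Cfsg.Agent.Lib.FTApps.RealGraph.Involutions
import Cfsg.Agent.Lib.FTApps.RealTwoPart
import Cfsg.Agent.S0215

/-!
The fixed point spaces of the involutions form a spread; there is one involution for each component,
so by the Z*-theorem the group is solvable.
-/

set_option autoImplicit false
set_option linter.style.haveILetI false
set_option linter.unusedSectionVars false

namespace CfsgLib.FTApps.RealGraph

open Subgroup

variable {Γ : Type*} (V : Type*) [Group Γ] [AddCommGroup V] [DistribMulAction Γ V]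

/-- Two elements with the same fixed points. -/
def SameFix (a b : Γ) : Prop := ∀ v : V, a • v = v ↔ b • v = v

theorem SameFix.refl (a : Γ) : SameFix V a a := fun _ => Iff.rfl

variable {V}

theorem SameFix.symm {a b : Γ} (h : SameFix V a b) : SameFix V b a := fun v => (h v).symm

theorem SameFix.trans {a b c : Γ} (h : SameFix V a b) (h' : SameFix V b c) : SameFix V a c :=
  fun v => (h v).trans (h' v)

theorem conj_smul_iff (g a : Γ) (v : V) : (g * a * g⁻¹) • v = v ↔ a • g⁻¹ • v = g⁻¹ • v := by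
  rw [mul_smul, mul_smul, smul_eq_iff_eq_inv_smul]

theorem SameFix.conj {a b : Γ} (h : SameFix V a b) (g : Γ) :
    SameFix V (g * a * g⁻¹) (g * b * g⁻¹) := fun v => by
  rw [conj_smul_iff, conj_smul_iff]; exact h _

variable (V) in
/-- The stabiliser of the fixed point space of `a`. -/
def stabPt (a : Γ) : Subgroup Γ where
  carrier := {g | SameFix V (g * a * g⁻¹) a}
  one_mem' := by
    show SameFix V (1 * a * 1⁻¹) a
    rw [one_mul, inv_one, mul_one]
    exact SameFix.refl V a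
  mul_mem' := fun {g h} hg hh => by
    show SameFix V (g * h * a * (g * h)⁻¹) a
    rw [show g * h * a * (g * h)⁻¹ = g * (h * a * h⁻¹) * g⁻¹ by group]
    exact (hh.conj g).trans hg
  inv_mem' := fun {g} hg => by
    show SameFix V (g⁻¹ * a * g⁻¹⁻¹) a
    have h := (hg.conj g⁻¹).symm
    rwa [show g⁻¹ * (g * a * g⁻¹) * g⁻¹⁻¹ = a by group] at h

variable (Γ V) in
/-- The kernel of the action on the spread. -/
def spreadKer : Subgroup Γ := ⨅ a : {a : Γ // Invol a}, stabPt V a.1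

theorem mem_spreadKer {g : Γ} : g ∈ spreadKer Γ V ↔ ∀ a, Invol a → g ∈ stabPt V a := by
  simp [spreadKer, mem_iInf]

instance spreadKer_normal : (spreadKer Γ V).Normal := ⟨fun k hk g => mem_spreadKer.2 fun a ha => by
  have h := (mem_spreadKer.1 hk _ (ha.conj g⁻¹) : SameFix V _ _).conj g
  show SameFix V _ a
  rwa [show g * (g⁻¹ * a * g⁻¹⁻¹) * g⁻¹ = a by group,
    show g * (k * (g⁻¹ * a * g⁻¹⁻¹) * k⁻¹) * g⁻¹ = g * k * g⁻¹ * a * (g * k * g⁻¹)⁻¹ by group] at h⟩

variable [Finite Γ] [Finite V] (H : Hyp Γ V)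

include H

/-- Commuting involutions have the same fixed points. -/
theorem Hyp.same_of_commute {a i : Γ} (ha : Invol a) (hi : Invol i) (hai : Commute a i) :
    SameFix V a i :=
  fun _ => ⟨H.fix_le_of_commute ha hi hai, H.fix_le_of_commute hi ha hai.symm⟩

theorem Hyp.same_of_even {a b : Γ} (ha : Invol a) (hb : Invol b) (he : Even (orderOf (b * a))) :
    SameFix V a b := by
  obtain ⟨m, hm⟩ := exists_invol_pow he
  have had : a * (b * a) * a⁻¹ = (b * a)⁻¹ := by
    rw [mul_inv_rev, ha.inv, hb.inv, mul_assoc, mul_assoc, ha.1, mul_one]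
  have hbd : b * (b * a) * b⁻¹ = (b * a)⁻¹ := by
    rw [mul_inv_rev, ha.inv, hb.inv, ← mul_assoc, hb.1, one_mul]
  have hca : Commute a ((b * a) ^ m) := by
    have := real_pow had m
    rw [hm.inv] at this
    exact mul_inv_eq_iff_eq_mul.1 this
  have hcb : Commute b ((b * a) ^ m) := by
    have := real_pow hbd m
    rw [hm.inv] at this
    exact mul_inv_eq_iff_eq_mul.1 this
  exact (H.same_of_commute ha hm hca).trans (H.same_of_commute hb hm hcb).symm

/-- The product of two involutions with a common fixed point is a 2-element. -/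
theorem Hyp.two_element_of_common {a b : Γ} (ha : Invol a) (hb : Invol b) {u : V} (hu : u ≠ 0)
    (hau : a • u = u) (hbu : b • u = u) : ∃ n : ℕ, (b * a) ^ 2 ^ n = 1 := by
  obtain ⟨k, hk⟩ := exists_odd_pow (b * a)
  refine ⟨k, ?_⟩
  by_contra hne
  have had : a * (b * a) * a⁻¹ = (b * a)⁻¹ := by
    rw [mul_inv_rev, ha.inv, hb.inv, mul_assoc, mul_assoc, ha.1, mul_one]
  have hdu : ∀ n : ℕ, (b * a) ^ n • u = u := fun n => by
    induction n with
    | zero => rw [pow_zero, one_smul]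
    | succ n ih => rw [pow_succ, mul_smul, mul_smul, hau, hbu, ih]
  exact hu (H.fpf _ a hk (real_pow had _) hne u (hdu _))

theorem Hyp.same_of_common {a b : Γ} (ha : Invol a) (hb : Invol b) {u : V} (hu : u ≠ 0)
    (hau : a • u = u) (hbu : b • u = u) : SameFix V a b := by
  obtain ⟨n, hn⟩ := H.two_element_of_common ha hb hu hau hbu
  by_cases h1 : b * a = 1
  · rw [show b = a by rw [eq_inv_of_mul_eq_one_left h1, ha.inv]]
    exact SameFix.refl V a
  obtain ⟨j, -, hj⟩ := (Nat.dvd_prime_pow Nat.prime_two).1 (orderOf_dvd_of_pow_eq_one hn)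
  refine H.same_of_even ha hb (hj ▸ Nat.even_pow.2 ⟨even_two, fun e => h1 ?_⟩)
  exact orderOf_eq_one_iff.1 (by rw [hj, e, pow_zero])

theorem Hyp.exists_other {a : Γ} (ha : Invol a) : ∃ b, Invol b ∧ ¬ SameFix V a b := by
  obtain ⟨x, hx1, hxo, hax⟩ := H.exists_inverted ha
  obtain ⟨u, hu, hau⟩ := H.exists_fix_ne_zero ha.1
  exact ⟨_, ha.conj x, fun h => hu (H.fix_inter_conj ha hxo hx1 hax hau ((h u).1 hau))⟩

theorem Hyp.same_of_mem_stabPt {a c : Γ} (ha : Invol a) (hc : Invol c) (h : c ∈ stabPt V a) :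
    SameFix V a c := by
  obtain ⟨v, hv, hav⟩ := H.exists_fix_ne_zero ha.1
  by_cases h0 : v + c • v = 0
  · exact H.same_of_common ha hc hv hav (H.eq_of_add_eq_zero h0).symm
  · have hcv : a • c • v = c • v := by
      refine ((h : SameFix V _ _) (c • v)).1 ?_
      rw [conj_smul_iff, inv_smul_smul, hav]
    refine H.same_of_common ha hc h0 (by rw [smul_add, hav, hcv]) ?_
    rw [smul_add, ← mul_smul, hc.1, one_smul, add_comm]

theorem Hyp.odd_inf {a b : Γ} (ha : Invol a) (hb : Invol b) (hne : ¬ SameFix V a b) :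
    Odd (Nat.card ↥(stabPt V a ⊓ stabPt V b)) := by
  by_contra hc
  obtain ⟨c, hcab, hc2⟩ := exists_invol_of_even hc
  exact hne ((H.same_of_mem_stabPt ha hc2 hcab.1).trans (H.same_of_mem_stabPt hb hc2 hcab.2).symm)

/-- A real element of odd order fixing one point of the spread fixes all. -/
theorem Hyp.mem_spreadKer_of_real {d g a : Γ} (hd : Odd (orderOf d))
    (hg : g * d * g⁻¹ = d⁻¹) (ha : Invol a) (hda : d ∈ stabPt V a) : d ∈ spreadKer Γ V := by
  by_cases hd1 : d = 1
  · rw [hd1]; exact one_mem _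
  refine mem_spreadKer.2 fun b hb => ?_
  obtain ⟨u, hu, hau⟩ := H.exists_fix_ne_zero ha.1
  obtain ⟨h, hh⟩ := H.exists_fixed_in_orbit (isPGroup_zpowers_invol hb) hu
  obtain ⟨c, hc, hcu⟩ := H.trans d g hd hg hd1 u h
  have hsame : SameFix V (c * a * c⁻¹) b := by
    refine H.same_of_common (ha.conj c) hb (H.smul_ne_zero' hu (g := h)) ?_ (hh b (mem_zpowers b))
    rw [← hcu, conj_smul_iff, inv_smul_smul, hau]
  show SameFix V (d * b * d⁻¹) b
  refine (hsame.conj d).symm.trans ?_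
  have e : d * (c * a * c⁻¹) * d⁻¹ = c * (d * a * d⁻¹) * c⁻¹ := by
    rw [show d * (c * a * c⁻¹) * d⁻¹ = d * c * a * (d * c)⁻¹ by group, ← hc.eq]; group
  rw [e]
  exact ((hda : SameFix V _ _).conj c).trans hsame

theorem Hyp.odd_card_spreadKer {a : Γ} (ha : Invol a) : Odd (Nat.card ↥(spreadKer Γ V)) := by
  obtain ⟨b, hb, hne⟩ := H.exists_other ha
  exact (H.odd_inf ha hb hne).of_dvd_nat
    (card_dvd_of_le (le_inf (fun g hg => mem_spreadKer.1 hg a ha) fun g hg => mem_spreadKer.1 hg b hb))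

/-- There is only one involution for each point of the spread. -/
theorem Hyp.eq_of_same {a a' : Γ} (ha : Invol a) (ha' : Invol a') (h : SameFix V a a') : a = a' := by
  obtain ⟨b, hb, hne⟩ := H.exists_other ha
  have hne' : ¬ SameFix V a' b := fun h' => hne (h.trans h')
  obtain ⟨w, hw, hw1, hw2⟩ := exists_swap_invol ha hb
    (Nat.not_even_iff_odd.1 fun he => hne (H.same_of_even ha hb he))
  obtain ⟨w', hw', hw'1, hw'2⟩ := exists_swap_invol ha' hb
    (Nat.not_even_iff_odd.1 fun he => hne' (H.same_of_even ha' hb he))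
  have hka : w' * w ∈ stabPt V a := by
    show SameFix V (w' * w * a * (w' * w)⁻¹) a
    rw [show w' * w * a * (w' * w)⁻¹ = w' * (w * a * w⁻¹) * w'⁻¹ by group, hw1, hw'2]
    exact h.symm
  have hkb : w' * w ∈ stabPt V b := by
    show SameFix V (w' * w * b * (w' * w)⁻¹) b
    rw [show w' * w * b * (w' * w)⁻¹ = w' * (w * b * w⁻¹) * w'⁻¹ by group, hw2]
    have := (h.conj w')
    rwa [hw'1] at this
  have hkodd : Odd (orderOf (w' * w)) := by
    refine (H.odd_inf ha hb hne).of_dvd_nat ?_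
    rw [← Subgroup.orderOf_mk (w' * w) (show w' * w ∈ stabPt V a ⊓ stabPt V b from ⟨hka, hkb⟩)]
    exact orderOf_dvd_natCard _
  have hk : w * (w' * w) * w⁻¹ = (w' * w)⁻¹ := by
    rw [mul_inv_rev, inv_eq_of_mul_eq_one_right hw, inv_eq_of_mul_eq_one_right hw', mul_assoc,
      mul_assoc, hw, mul_one]
  have hkK : w' * w ∈ spreadKer Γ V := H.mem_spreadKer_of_real hkodd hk ha hka
  have ha'eq : w' * w * a * (w' * w)⁻¹ = a' := by
    rw [show w' * w * a * (w' * w)⁻¹ = w' * (w * a * w⁻¹) * w'⁻¹ by group, hw1, hw'2]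
  have hmem : a' * a ∈ spreadKer Γ V := by
    rw [← ha'eq, show w' * w * a * (w' * w)⁻¹ * a = w' * w * (a * (w' * w)⁻¹ * a) by group]
    refine mul_mem hkK ?_
    have h2 := spreadKer_normal.conj_mem _ (inv_mem hkK) a
    rwa [ha.inv] at h2
  obtain ⟨u, hu, hau⟩ := H.exists_fix_ne_zero ha.1
  obtain ⟨n, hn⟩ := H.two_element_of_common ha ha' hu hau ((h u).1 hau)
  have h1 : a' * a = 1 := orderOf_eq_one_iff.1 (Nat.eq_one_of_dvd_coprimes
    ((Nat.coprime_two_left.2 (H.odd_card_spreadKer ha)).pow_left n) (orderOf_dvd_of_pow_eq_one hn)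
    (by rw [← Subgroup.orderOf_mk _ hmem]; exact orderOf_dvd_natCard _))
  rw [eq_inv_of_mul_eq_one_left h1, ha.inv]

/-- There is a normal subgroup of odd order with 2-closed quotient, and the group is solvable. -/
theorem Hyp.structure_odd : Group.IsSolvable Γ ∧
    ∃ X : Subgroup Γ, ∃ _ : X.Normal, Odd (Nat.card X) ∧
      Odd (Cfsg.pCore 2 (Γ ⧸ X)).index := by
  haveI : Fact (Nat.Prime 2) := ⟨Nat.prime_two⟩
  by_cases hev : Odd (Nat.card Γ)
  · refine ⟨solvable_of_odd hev, ⊤, inferInstance, by rwa [card_top], ?_⟩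
    haveI : Subsingleton (Γ ⧸ (⊤ : Subgroup Γ)) := QuotientGroup.subsingleton_quotient_top
    rw [index_eq_card, Nat.card_of_subsingleton (1 : (Γ ⧸ (⊤ : Subgroup Γ)) ⧸ _)]
    exact odd_one
  obtain ⟨a, ha2⟩ := exists_prime_orderOf_dvd_card' 2 (Nat.not_odd_iff_even.1 hev).two_dvd
  have ha : Invol a := invol_of_orderOf ha2
  have hcomm : ∀ i : Γ, Invol i → Commute a i → a = i := fun i hi hai =>
    H.eq_of_same ha hi (H.same_of_commute ha hi hai)
  obtain ⟨P, hP⟩ := (isPGroup_zpowers_invol ha).exists_le_sylow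
  have haP : a ∈ (P : Subgroup Γ) := hP (mem_zpowers a)
  haveI : Nontrivial ↥(P : Subgroup Γ) := ⟨⟨a, haP⟩, 1, fun e => ha.2 (congrArg Subtype.val e)⟩
  haveI := P.isPGroup'.center_nontrivial
  obtain ⟨z₀, hz₀⟩ := exists_prime_orderOf_dvd_card' (G := center ↥(P : Subgroup Γ)) 2 (by
    obtain ⟨n, hn, hcard⟩ := ((P.isPGroup'.to_subgroup (center ↥(P : Subgroup Γ))).nontrivial_iff_card.1
      inferInstance)
    exact hcard ▸ dvd_pow_self 2 hn.ne')
  have hzI : Invol ((z₀ : ↥(P : Subgroup Γ)) : Γ) :=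
    invol_of_orderOf (by rw [Subgroup.orderOf_coe, Subgroup.orderOf_coe, hz₀])
  have haz : a = ((z₀ : ↥(P : Subgroup Γ)) : Γ) :=
    hcomm _ hzI (congrArg Subtype.val (mem_center_iff.1 z₀.2 ⟨a, haP⟩))
  have hiso : ∀ g : Γ, g * a * g⁻¹ ∈ P → g * a * g⁻¹ = a := fun g hg => by
    refine (hcomm _ (ha.conj g) ?_).symm
    have := congrArg Subtype.val (mem_center_iff.1 z₀.2 ⟨g * a * g⁻¹, hg⟩)
    rw [Subgroup.coe_mul, Subgroup.coe_mul, ← haz] at this
    exact this.symm
  obtain ⟨N, hNn, hNo, hN⟩ := Cfsg.Agent.S0215.result P a ha2 haP hiso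
  haveI := hNn
  set C := centralizer ({a} : Set Γ)
  have hCs : ∀ g ∈ C, g ∈ stabPt V a := fun g hg => by
    show SameFix V (g * a * g⁻¹) a
    rw [mem_centralizer_singleton_iff.1 hg, mul_inv_cancel_right]
    exact SameFix.refl V a
  let M : Subgroup ↥C := (spreadKer Γ V).subgroupOf C
  haveI : M.Normal := spreadKer_normal.comap _
  have hKo := H.odd_card_spreadKer ha
  have hMo : Odd (Nat.card M) := hKo.of_dvd_nat
    (card_comap_dvd_of_injective _ _ C.subtype_injective)
  haveI : Group.IsSolvable M := solvable_of_odd hMo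
  have hnr : RealTwoPart.NoReal (↥C ⧸ M) := by
    intro y g hy hg
    obtain ⟨u, h, hu, hh⟩ := lift_odd (QuotientGroup.mk' M) (QuotientGroup.mk'_surjective M)
      (by rwa [QuotientGroup.ker_mk']) hg
    rw [← hu] at hy
    obtain ⟨u', hu', ho', hh'⟩ := odd_of_lift (QuotientGroup.mk' M) hy hh
    rw [← hu, ← hu']
    refine (QuotientGroup.eq_one_iff u').2 (mem_subgroupOf.2 ?_)
    exact H.mem_spreadKer_of_real (by rw [Subgroup.orderOf_coe]; exact ho')
      (congrArg Subtype.val hh') ha (hCs _ u'.2)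
  have hidx := RealTwoPart.odd_index_pCore hnr
  haveI : Group.IsSolvable (↥C ⧸ M) := by
    have hn := CfsgLib.Solvable.Cores.isPGroup_pCore (G := ↥C ⧸ M) 2
    haveI := hn.isNilpotent
    exact FTApps.isSolvable_of_odd_index (fun X _ _ hX => solvable_of_odd hX) _ inferInstance hidx
  refine ⟨solvable_of_odd_normal_comm ha N hNo hN
    (Group.isSolvable_of_ker_le_range M.subtype (QuotientGroup.mk' M) (by simp)), ?_⟩
  refine ⟨N ⊔ spreadKer Γ V, inferInstance,
    (hNo.mul hKo).of_dvd_nat ⟨_, (CfsgLib.Solvable.Basic.card_sup_mul _ _).symm⟩, ?_⟩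
  let f : ↥C ⧸ M →* Γ ⧸ (N ⊔ spreadKer Γ V) :=
    QuotientGroup.lift M ((QuotientGroup.mk' (N ⊔ spreadKer Γ V)).comp C.subtype) fun m hm =>
      MonoidHom.mem_ker.2 ((QuotientGroup.eq_one_iff _).2 (mem_sup_right (mem_subgroupOf.1 hm)))
  have hf : Function.Surjective f := by
    intro y
    obtain ⟨g, rfl⟩ := QuotientGroup.mk'_surjective (N ⊔ spreadKer Γ V) y
    have hd : g * a * g⁻¹ * a ∈ N := by
      have := inv_mem (hN g)
      rwa [show (a * g * a⁻¹ * g⁻¹)⁻¹ = g * a * g⁻¹ * a⁻¹ by group, ha.inv] at this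
    obtain ⟨s, hs, h1, -, -⟩ := exists_swap ha (ha.conj g)
      (hNo.of_dvd_nat (by rw [← Subgroup.orderOf_mk _ hd]; exact orderOf_dvd_natCard _))
    refine ⟨QuotientGroup.mk' M ⟨s⁻¹ * g, mem_centralizer_singleton_iff.2 ?_⟩, ?_⟩
    · calc s⁻¹ * g * a = s⁻¹ * (g * a * g⁻¹) * g := by group
        _ = s⁻¹ * (s * a * s⁻¹) * g := by rw [h1]
        _ = a * (s⁻¹ * g) := by group
    · show QuotientGroup.mk' (N ⊔ spreadKer Γ V) (s⁻¹ * g) = _
      rw [map_mul, map_inv, show QuotientGroup.mk' (N ⊔ spreadKer Γ V) s = 1 from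
        (QuotientGroup.eq_one_iff s).2 (mem_sup_left (zpowers_le.2 hd hs)), inv_one, one_mul]
  haveI : ((Cfsg.pCore 2 (↥C ⧸ M)).map f).Normal := Normal.map inferInstance f hf
  exact (hidx.of_dvd_nat (index_map_dvd _ hf)).of_dvd_nat (index_dvd_of_le
    (CfsgLib.Solvable.Cores.le_pCore ((CfsgLib.Solvable.Cores.isPGroup_pCore 2).map f)))

theorem Hyp.solvable : Group.IsSolvable Γ := H.structure_odd.1

end CfsgLib.FTApps.RealGraph
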