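import Cfsg.Agent.Lib.FTApps.RealGraph.Classes
import Cfsg.Agent.Lib.FTApps.RealGraph.Spread

/-! The action on a minimal section of noncentral involutions with small classes. -/

set_option autoImplicit false
set_option linter.style.haveILetI false
set_option linter.unusedSectionVars false

namespace CfsgLib.FTApps.RealGraph

open Subgroup

variable {G : Type*} [Group G] [Finite G] {P : ℕ → Prop}

theorem section_structure (hP2 : P 2) (hS : Split G P) (Z W : Subgroup G) [Z.Normal] [W.Normal]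
    (hcomm : ∀ a ∈ W, ∀ b ∈ W, a * b = b * a) (hsq : ∀ a ∈ W, a * a = 1)
    {v₀ : G} (hv₀ : v₀ ∈ W) (hv₀Z : v₀ ∉ Z)
    (hA : ∀ v ∈ W, v ∉ Z → TypeA P v)
    (hfix : ∀ v ∈ W, v ∉ Z → ∀ g : G, g * v * g⁻¹ * v⁻¹ ∈ Z → g * v * g⁻¹ = v)
    (hmin : ∀ U : Subgroup G, U.Normal → Z < U → U ≤ W → U = W) (hZW : Z ≤ W) :
    Group.IsSolvable G ∧ ∃ X : Subgroup G, ∃ _ : X.Normal,
      Odd ((Cfsg.pCore 2 G).relIndex X) ∧ Odd (Cfsg.pCore 2 (G ⧸ X)).index := by
  classical
  haveI : Fact (Nat.Prime 2) := ⟨Nat.prime_two⟩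
  set π := QuotientGroup.mk' Z with hπ
  set Wb := W.map π with hWb
  haveI : Wb.Normal := Normal.map inferInstance π (QuotientGroup.mk'_surjective Z)
  letI : CommGroup ↥Wb :=
    { (inferInstance : Group ↥Wb) with
      mul_comm := by
        rintro ⟨_, a, ha, rfl⟩ ⟨_, b, hb, rfl⟩
        refine Subtype.ext ?_
        show π a * π b = π b * π a
        rw [← map_mul, ← map_mul, hcomm a ha b hb] }
  let ρ : G →* MulAut ↥Wb := (MulAut.conjNormal (H := Wb)).comp π
  letI : DistribMulAction ↥ρ.range (Additive ↥Wb) :=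
    { smul := fun g m => Additive.ofMul ((g : MulAut ↥Wb) m.toMul)
      one_smul := fun m => rfl
      mul_smul := fun g h m => rfl
      smul_zero := fun g => congrArg Additive.ofMul (map_one (g : MulAut ↥Wb))
      smul_add := fun g a b => congrArg Additive.ofMul (map_mul (g : MulAut ↥Wb) a.toMul b.toMul) }
  let mkV : ∀ v : G, v ∈ W → Additive ↥Wb := fun v hv =>
    Additive.ofMul ⟨π v, mem_map_of_mem π hv⟩
  have hrep : ∀ m : Additive ↥Wb, ∃ (v : G) (hv : v ∈ W), mkV v hv = m := fun m => by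
    obtain ⟨v, hv, hm⟩ := m.toMul.2
    exact ⟨v, hv, congrArg Additive.ofMul (Subtype.ext hm)⟩
  have hzero : ∀ (v : G) (hv : v ∈ W), mkV v hv = 0 ↔ v ∈ Z := fun v hv => by
    constructor
    · intro h
      exact (QuotientGroup.eq_one_iff v).1 (congrArg Subtype.val (congrArg Additive.toMul h))
    · intro h
      exact congrArg Additive.ofMul (Subtype.ext ((QuotientGroup.eq_one_iff v).2 h))
  have hsmul : ∀ (g v : G) (hv : v ∈ W),
      ρ.rangeRestrict g • mkV v hv = mkV (g * v * g⁻¹) (Normal.conj_mem inferInstance v hv g) :=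
    fun g v hv => congrArg Additive.ofMul (Subtype.ext (by
      show (MulAut.conjNormal (π g) (⟨π v, mem_map_of_mem π hv⟩ : ↥Wb) : G ⧸ Z) = π (g * v * g⁻¹)
      rw [MulAut.conjNormal_apply, map_mul, map_mul, map_inv]))
  have hstab : ∀ (g v : G) (hv : v ∈ W), v ∉ Z → ρ.rangeRestrict g • mkV v hv = mkV v hv →
      g * v * g⁻¹ = v := by
    intro g v hv hvZ h
    rw [hsmul g v hv] at h
    refine hfix v hv hvZ g ((QuotientGroup.eq_one_iff _).1 ?_)
    have e : π (g * v * g⁻¹) = π v := congrArg Subtype.val (congrArg Additive.toMul h)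
    show π (g * v * g⁻¹ * v⁻¹) = 1
    rw [map_mul _ (g * v * g⁻¹), e, map_inv, mul_inv_cancel]
  have hsurj : Function.Surjective ρ.rangeRestrict := MonoidHom.rangeRestrict_surjective ρ
  -- the kernel
  set K := ρ.rangeRestrict.ker with hK
  have hKC : ∀ v ∈ W, v ∉ Z → K ≤ centralizer ({v} : Set G) := fun v hv hvZ g hg => by
    refine mem_centralizer_singleton_iff.2 (mul_inv_eq_iff_eq_mul.1 (hstab g v hv hvZ ?_))
    rw [MonoidHom.mem_ker.1 hg, one_smul]
  have hv₀A := hA v₀ hv₀ hv₀Z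
  have hKsol : Group.IsSolvable ↥K := by
    haveI := solvable_centralizer hP2 hS (hsq v₀ hv₀) hv₀A
    exact Group.isSolvable_of_isSolvable_injective (inclusion_injective (hKC v₀ hv₀ hv₀Z))
  let S := K ⊓ Cfsg.pCore 2 G
  have hS2 : IsPGroup 2 S := (CfsgLib.Solvable.Cores.isPGroup_pCore 2).to_le inf_le_right
  have hSK : Odd (S.relIndex K) := by
    have h1 := RealTwoPart.odd_index_pCore
      (noReal_centralizer hP2 hS (hsq v₀ hv₀) hv₀A K (hKC v₀ hv₀ hv₀Z))
    have hle : (Cfsg.pCore 2 ↥K).map K.subtype ≤ Cfsg.pCore 2 G :=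
      CfsgLib.Solvable.Cores.le_pCore ((CfsgLib.Solvable.Cores.isPGroup_pCore 2).map _)
    exact h1.of_dvd_nat (index_dvd_of_le fun k hk =>
      mem_subgroupOf.2 ⟨k.2, hle (mem_map_of_mem K.subtype hk)⟩)
  have hlift : ∀ x g : ↥ρ.range, Odd (orderOf x) → g * x * g⁻¹ = x⁻¹ →
      ∃ u h : G, ρ.rangeRestrict u = x ∧ Odd (orderOf u) ∧ h * u * h⁻¹ = u⁻¹ := by
    intro x g ho hg
    let f : G ⧸ S →* ↥ρ.range := QuotientGroup.lift S ρ.rangeRestrict (fun s hs => hs.1)
    have hker : Odd (Nat.card f.ker) := by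
      rw [QuotientGroup.ker_lift, ← Subgroup.relIndex_ker, QuotientGroup.ker_mk']
      exact hSK
    obtain ⟨y, h, hy, hh⟩ := lift_odd f (fun z => by
      obtain ⟨w, hw⟩ := hsurj z; exact ⟨(w : G ⧸ S), hw⟩) hker hg
    rw [← hy] at ho
    obtain ⟨y', hy', ho', hh'⟩ := odd_of_lift f ho hh
    obtain ⟨u, k, hu, hou, hku⟩ := lift_two S hS2 ho' hh'
    exact ⟨u, k, by rw [← hy, ← hy', ← hu]; rfl, hou, hku⟩
  have H : Hyp ↥ρ.range (Additive ↥Wb) := by
    refine ⟨?_, ⟨mkV v₀ hv₀, fun e => hv₀Z ((hzero v₀ hv₀).1 e)⟩, ?_, ?_, ?_, ?_, ?_⟩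
    · intro m
      obtain ⟨v, hv, rfl⟩ := hrep m
      refine congrArg Additive.ofMul (Subtype.ext ?_)
      show π v * π v = 1
      rw [← map_mul, hsq v hv, map_one]
    · intro g hg
      exact Subtype.ext (MulEquiv.ext fun m => congrArg Additive.toMul (hg (Additive.ofMul m)))
    · intro m hm
      obtain ⟨v, hv, rfl⟩ := hrep m
      have hvZ : v ∉ Z := fun h => hm ((hzero v hv).2 h)
      obtain ⟨Q, hQ, hQi, hQC, hCQ⟩ := exists_syl hP2 hS (hsq v hv) (hA v hv hvZ)
      refine ⟨Q.map ρ.rangeRestrict, hQ.map _, hQi.of_dvd_nat (index_map_dvd _ hsurj), ?_, ?_⟩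
      · rintro _ ⟨q, hq, rfl⟩
        rw [hsmul q v hv]
        refine congrArg Additive.ofMul (Subtype.ext (congrArg π ?_))
        exact mul_inv_eq_iff_eq_mul.2 (mem_centralizer_singleton_iff.1 (hQC hq))
      · intro γ hγ
        obtain ⟨g, rfl⟩ := hsurj γ
        refine le_normalizer_map _ (mem_map_of_mem _ (hCQ ?_))
        exact mem_centralizer_singleton_iff.2 (mul_inv_eq_iff_eq_mul.1 (hstab g v hv hvZ hγ))
    · intro x g ho hg hx1 m hm
      obtain ⟨v, hv, rfl⟩ := hrep m
      by_contra hm0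
      have hvZ : v ∉ Z := fun h => hm0 ((hzero v hv).2 h)
      obtain ⟨u, h, rfl, hou, hhu⟩ := hlift x g ho hg
      refine hx1 ?_
      rw [typeA_comm hP2 hS (hsq v hv) (hA v hv hvZ) hou hhu
        (mul_inv_eq_iff_eq_mul.1 (hstab u v hv hvZ hm)), map_one]
    · intro x g ho hg hx1 m γ
      obtain ⟨v, hv, rfl⟩ := hrep m
      obtain ⟨u, h, rfl, hou, hhu⟩ := hlift x g ho hg
      by_cases hvZ : v ∈ Z
      · exact ⟨1, Commute.one_left _, by rw [(hzero v hv).2 hvZ, smul_zero, smul_zero]⟩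
      obtain ⟨g', rfl⟩ := hsurj γ
      obtain ⟨c, d, hc, hd, rfl⟩ := factor ((hA v hv hvZ).coprime
        (typeB_of_real hP2 hS hou (fun e => hx1 (by rw [e, map_one])) hhu)).symm g'
      refine ⟨ρ.rangeRestrict c, hc.map _, ?_⟩
      rw [map_mul, mul_smul, hsmul d v hv]
      congr 1
      exact congrArg Additive.ofMul (Subtype.ext (congrArg π (by rw [hd.eq, mul_inv_cancel_right])))
    · intro U hU
      let U' : Subgroup G :=
        { carrier := {g | ∃ hg : g ∈ W, mkV g hg ∈ U}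
          one_mem' := ⟨one_mem W, by
            rw [(hzero 1 (one_mem W)).2 (one_mem Z)]
            exact zero_mem U⟩
          mul_mem' := by
            rintro a b ⟨ha, ha'⟩ ⟨hb, hb'⟩
            refine ⟨mul_mem ha hb, ?_⟩
            have e : mkV (a * b) (mul_mem ha hb) = mkV a ha + mkV b hb :=
              congrArg Additive.ofMul (Subtype.ext (map_mul π a b))
            rw [e]
            exact add_mem ha' hb'
          inv_mem' := by
            rintro a ⟨ha, ha'⟩
            refine ⟨inv_mem ha, ?_⟩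
            have e : mkV a⁻¹ (inv_mem ha) = - mkV a ha :=
              congrArg Additive.ofMul (Subtype.ext (map_inv π a))
            rw [e]
            exact neg_mem ha' }
      have hU'n : U'.Normal := ⟨fun a ⟨ha, ha'⟩ g => ⟨Normal.conj_mem inferInstance a ha g, by
        rw [← hsmul g a ha]; exact hU _ _ ha'⟩⟩
      have hZU : Z ≤ U' := fun z hz => ⟨hZW hz, by rw [(hzero z (hZW hz)).2 hz]; exact zero_mem U⟩
      rcases hZU.eq_or_lt with h | h
      · left
        refine (AddSubgroup.eq_bot_iff_forall _).2 fun m hm => ?_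
        obtain ⟨v, hv, rfl⟩ := hrep m
        exact (hzero v hv).2 (h ▸ ⟨hv, hm⟩ : v ∈ Z)
      · right
        refine (AddSubgroup.eq_top_iff' _).2 fun m => ?_
        obtain ⟨v, hv, rfl⟩ := hrep m
        have hvU : v ∈ U' := (hmin U' hU'n h fun a ⟨ha, _⟩ => ha).symm ▸ hv
        exact hvU.2
  obtain ⟨hΓ, X, hXn, hXo, hXi⟩ := H.structure_odd
  haveI := hΓ
  haveI := hKsol
  haveI := hXn
  refine ⟨Group.isSolvable_of_ker_le_range K.subtype ρ.rangeRestrict (by rw [range_subtype]),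
    X.comap ρ.rangeRestrict, Normal.comap inferInstance _, ?_, ?_⟩
  · have h1 : K ≤ X.comap ρ.rangeRestrict := fun k hk => mem_comap.2 (by
      rw [MonoidHom.mem_ker.1 hk]; exact one_mem X)
    have h2 : Odd (S.relIndex (X.comap ρ.rangeRestrict)) := by
      rw [← relIndex_mul_relIndex S K _ inf_le_left h1]
      refine hSK.mul ?_
      rw [hK, ← MonoidHom.comap_bot ρ.rangeRestrict, relIndex_comap,
        map_comap_eq_self_of_surjective hsurj, relIndex_bot_left]
      exact hXo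
    exact h2.of_dvd_nat (relIndex_dvd_of_le_left _ inf_le_right)
  · let F : G →* ↥ρ.range ⧸ X := (QuotientGroup.mk' X).comp ρ.rangeRestrict
    have hker : F.ker = X.comap ρ.rangeRestrict := by
      rw [← MonoidHom.comap_ker, QuotientGroup.ker_mk']
    let e : G ⧸ X.comap ρ.rangeRestrict ≃* ↥ρ.range ⧸ X :=
      (QuotientGroup.quotientMulEquivOfEq hker.symm).trans
        (QuotientGroup.quotientKerEquivOfSurjective F
          ((QuotientGroup.mk'_surjective X).comp hsurj))
    rw [← CfsgLib.Solvable.Cores.map_pCore e.symm 2]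
    exact hXi.of_dvd_nat (index_map_dvd _ e.symm.surjective)

end CfsgLib.FTApps.RealGraph
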