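import Cfsg.Agent.Lib.FTApps.RealGraph.TwoPart

/-! The structure of a group with disconnected real class size graph. -/

set_option autoImplicit false
set_option linter.style.haveILetI false
set_option linter.unusedSectionVars false

namespace CfsgLib.FTApps.RealGraph

open Subgroup

universe u

variable {G : Type u} [Group G] [Finite G]

/-- If `v * b = t` and the class sizes of `t` and `v` are coprime to that of `b`, translations
preserve the class of `t`. -/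
theorem idx_eq_one_of_translation {v t b : G} (hvb : v * b = t) (hb2 : b * b = 1)
    (hvbc : (idx v).Coprime (idx b)) (htb : (idx t).Coprime (idx b)) (hodd : Odd (idx t))
    (hcm : ∀ g : G, Commute b (g * b * g⁻¹)) : idx b = 1 := by
  have hv : v = t * b := by rw [← hvb, mul_assoc, hb2, mul_one]
  have hgen : ∀ g g₁ : G, ∃ h : G, g₁ * t * g₁⁻¹ * (b * (g * b * g⁻¹)) = h * t * h⁻¹ := by
    intro g g₁
    obtain ⟨c, hcb, hct⟩ := factor_conj htb.symm g₁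
    obtain ⟨d, hdv, hdb⟩ := factor_conj hvbc (c⁻¹ * g)
    refine ⟨c * d, ?_⟩
    calc g₁ * t * g₁⁻¹ * (b * (g * b * g⁻¹))
        = c * t * c⁻¹ * (c * b * c⁻¹) * (c * (c⁻¹ * g * b * (c⁻¹ * g)⁻¹) * c⁻¹) := by
          rw [← hct, hcb]; group
      _ = c * (v * (c⁻¹ * g * b * (c⁻¹ * g)⁻¹)) * c⁻¹ := by rw [hv]; group
      _ = c * (d * v * d⁻¹ * (d * b * d⁻¹)) * c⁻¹ := by rw [hdb, hdv]
      _ = c * d * (v * b) * (c * d)⁻¹ := by group
      _ = c * d * t * (c * d)⁻¹ := by rw [hvb]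
  refine idx_eq_one_of_comm fun g => ?_
  set d := b * (g * b * g⁻¹) with hd
  have hd2 : d * d = 1 := by
    rw [hd, ← pow_two, (hcm g).mul_pow, pow_two, pow_two, hb2,
      show g * b * g⁻¹ * (g * b * g⁻¹) = g * (b * b) * g⁻¹ by group, hb2, mul_one, mul_inv_cancel,
      mul_one]
  let Ω := {z : G // IsConj t z}
  let σ : Ω → Ω := fun z => ⟨z.1 * d, by
    obtain ⟨g₁, hg₁⟩ := isConj_iff.1 z.2
    obtain ⟨h, hh⟩ := hgen g g₁
    exact isConj_iff.2 ⟨h, by rw [← hh, hg₁]⟩⟩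
  have hσ : ∀ z, σ (σ z) = z := fun z => Subtype.ext (by
    show z.1 * d * d = z.1
    rw [mul_assoc, hd2, mul_one])
  obtain ⟨z, hz⟩ := exists_fixed_of_odd (α := Ω) (by rw [card_class]; exact hodd) (n := 1)
    (Function.Involutive.toPerm σ hσ) (by rw [pow_one, pow_two]; exact Equiv.ext hσ)
  have hd1 : d = 1 := mul_eq_left.1 (congrArg Subtype.val hz)
  rw [hd] at hd1
  rw [eq_inv_of_mul_eq_one_right hd1, inv_eq_of_mul_eq_one_right hb2]

variable (π₁ π₂ : Set ℕ)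

/-- Some real class size is even. -/
theorem exists_even (hd : Disjoint π₁ π₂)
    (h₁ : ∀ q ∈ π₁, q.Prime ∧ ∃ x g : G, g * x * g⁻¹ = x⁻¹ ∧ q ∣ idx x)
    (h₂ : ∀ q ∈ π₂, q.Prime ∧ ∃ x g : G, g * x * g⁻¹ = x⁻¹ ∧ q ∣ idx x)
    (hn₁ : π₁.Nonempty) (hn₂ : π₂.Nonempty)
    (hcov : ∀ (x g : G) (q : ℕ), g * x * g⁻¹ = x⁻¹ → q.Prime → q ∣ idx x → q ∈ π₁ ∨ q ∈ π₂)
    (hno : ∀ (x g : G), g * x * g⁻¹ = x⁻¹ → ∀ a ∈ π₁, ∀ b ∈ π₂, ¬ (a ∣ idx x ∧ b ∣ idx x)) :
    ∃ y g : G, g * y * g⁻¹ = y⁻¹ ∧ 2 ∣ idx y := by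
  by_contra hno2
  push Not at hno2
  haveI : Fact (Nat.Prime 2) := ⟨Nat.prime_two⟩
  have hsq : ∀ y g : G, g * y * g⁻¹ = y⁻¹ → y * y = 1 := fun y g h => by
    by_contra h'
    exact hno2 y g h (two_dvd_idx h h')
  have hnr : RealTwoPart.NoReal G := fun y g ho h => eq_one_of_odd_sq ho (hsq y g h)
  have hOi := RealTwoPart.odd_index_pCore hnr
  set O := Cfsg.pCore 2 G
  have hmem : ∀ z : G, z * z = 1 → z ∈ O := fun z hz => by
    rw [← QuotientGroup.eq_one_iff, ← orderOf_eq_one_iff]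
    refine Nat.eq_one_of_dvd_coprimes (Nat.coprime_two_left.2 hOi)
      (orderOf_dvd_of_pow_eq_one (by rw [pow_two, ← QuotientGroup.mk_mul, hz]; rfl)) ?_
    rw [index_eq_card]; exact orderOf_dvd_natCard _
  have hOC : ∀ y : G, Odd (idx y) → ∀ o ∈ O, Commute o y := fun y hy o ho => by
    refine mem_centralizer_singleton_iff.1 ((relIndex_eq_one.1 ?_) ho)
    obtain ⟨k, hk⟩ := (CfsgLib.Solvable.Cores.isPGroup_pCore (G := G) 2).exists_card_eq
    refine Nat.eq_one_of_dvd_coprimes ((Nat.coprime_two_left.2 hy).pow_left k) ?_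
      relIndex_dvd_index_right
    exact hk ▸ relIndex_dvd_card _ _
  obtain ⟨q, hq⟩ := hn₁
  obtain ⟨hqp, t, gt, hgt, hqt⟩ := h₁ q hq
  obtain ⟨r, hr⟩ := hn₂
  obtain ⟨hrp, b, gb, hgb, hrb⟩ := h₂ r hr
  have ht1 : idx t ≠ 1 := fun e => by
    rw [e] at hqt; exact hqp.one_lt.ne' (Nat.eq_one_of_dvd_one hqt)
  have hb1 : idx b ≠ 1 := fun e => by
    rw [e] at hrb; exact hrp.one_lt.ne' (Nat.eq_one_of_dvd_one hrb)
  have hto : Odd (idx t) := Nat.not_even_iff_odd.1 fun h => hno2 t gt hgt h.two_dvd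
  have hbo : Odd (idx b) := Nat.not_even_iff_odd.1 fun h => hno2 b gb hgb h.two_dvd
  have hall₁ : ∀ a : ℕ, a.Prime → a ∣ idx t → a ∈ π₁ := fun a ha had =>
    (hcov t gt a hgt ha had).resolve_right fun h => hno t gt hgt q hq a h ⟨hqt, had⟩
  have hall₂ : ∀ a : ℕ, a.Prime → a ∣ idx b → a ∈ π₂ := fun a ha had =>
    (hcov b gb a hgb ha had).resolve_left fun h => hno b gb hgb a h r hr ⟨had, hrb⟩
  have htb : (idx t).Coprime (idx b) := Nat.coprime_of_dvd fun a ha h h' =>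
    hd.ne_of_mem (hall₁ a ha h) (hall₂ a ha h') rfl
  have ht2 := hsq t gt hgt
  have hb2 := hsq b gb hgb
  have hcb : ∀ z : G, z * z = 1 → Commute z b := fun z hz => hOC b hbo z (hmem z hz)
  have hct : ∀ z : G, z * z = 1 → Commute z t := fun z hz => hOC t hto z (hmem z hz)
  have hconj : ∀ z g : G, z * z = 1 → g * z * g⁻¹ * (g * z * g⁻¹) = 1 := fun z g hz => by
    rw [show g * z * g⁻¹ * (g * z * g⁻¹) = g * (z * z) * g⁻¹ by group, hz, mul_one, mul_inv_cancel]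
  set v := t * b with hv
  have hv2 : v * v = 1 := by
    rw [← pow_two, hv, (hcb t ht2).mul_pow, pow_two, pow_two, ht2, hb2, mul_one]
  have hvb : v * b = t := by rw [hv, mul_assoc, hb2, mul_one]
  have hvt : v * t = b := by rw [hv, (hcb t ht2).eq, mul_assoc, ht2, mul_one]
  have hvr : (1 : G) * v * 1⁻¹ = v⁻¹ := by
    rw [one_mul, inv_one, mul_one, inv_eq_of_mul_eq_one_right hv2]
  by_cases hv1 : idx v = 1
  · refine ht1 (idx_eq_one_of_comm fun g => ?_)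
    obtain ⟨c, hcb', hct'⟩ := factor_conj htb.symm g
    have e := comm_of_idx_eq_one hv1 c
    rw [hv, show c * (t * b) * c⁻¹ = c * t * c⁻¹ * (c * b * c⁻¹) by group, hcb', hct'] at e
    exact mul_right_cancel e
  obtain ⟨a, ha, had⟩ := Nat.exists_prime_and_dvd hv1
  rcases hcov v 1 a hvr ha had with h | h
  · -- all primes of the class of `v` lie in `π₁`
    refine hb1 (idx_eq_one_of_translation hvb hb2 ?_ htb hto fun g => (hcb _ (hconj b g hb2)).symm)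
    refine Nat.coprime_of_dvd fun c hc h' h'' => ?_
    exact hno v 1 hvr a h c (hall₂ c hc h'') ⟨had, h'⟩
  · refine ht1 (idx_eq_one_of_translation hvt ht2 ?_ htb.symm hbo fun g =>
      (hct _ (hconj t g ht2)).symm)
    refine Nat.coprime_of_dvd fun c hc h' h'' => ?_
    exact hno v 1 hvr c (hall₁ c hc h'') a h ⟨h', had⟩

/-- The subgroup generated by the 2-elements. -/
def twoGen (G : Type u) [Group G] : Subgroup G := closure {g : G | ∃ k : ℕ, orderOf g = 2 ^ k}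

instance twoGen_normal : (twoGen G).Normal := ⟨fun z hz h => by
  have hle : twoGen G ≤ (twoGen G).comap (MulAut.conj h).toMonoidHom := (closure_le _).2 (by
    rintro g ⟨k, hk⟩
    exact subset_closure ⟨k, by
      rw [← hk]; exact orderOf_injective (MulAut.conj h).toMonoidHom (MulAut.conj h).injective g⟩)
  exact hle hz⟩

theorem mem_twoGen {g : G} {k : ℕ} (hg : g ^ 2 ^ k = 1) : g ∈ twoGen G := by
  obtain ⟨j, -, hj⟩ := (Nat.dvd_prime_pow Nat.prime_two).1 (orderOf_dvd_of_pow_eq_one hg)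
  exact subset_closure ⟨j, hj⟩

theorem twoGen_generated : closure {g : ↥(twoGen G) | ∃ k : ℕ, g ^ 2 ^ k = 1} = ⊤ := by
  refine eq_top_iff.2 fun x _ => ?_
  have h2 : (x : G) ∈ (closure {g : ↥(twoGen G) | ∃ k : ℕ, g ^ 2 ^ k = 1}).map (twoGen G).subtype := by
    rw [MonoidHom.map_closure]
    refine closure_mono ?_ x.2
    rintro g ⟨k, hk⟩
    exact ⟨⟨g, subset_closure ⟨k, hk⟩⟩, ⟨k, Subtype.ext (by
      show g ^ 2 ^ k = 1
      rw [← hk]; exact pow_orderOf_eq_one g)⟩, rfl⟩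
  obtain ⟨z, hz, e⟩ := h2
  rwa [Subtype.ext e] at hz

theorem idx_subgroup_dvd (K : Subgroup G) [K.Normal] (y : ↥K) : idx y ∣ idx (y : G) := by
  have e : centralizer ({y} : Set ↥K) = (centralizer ({(y : G)} : Set G)).subgroupOf K := by
    ext h
    rw [mem_subgroupOf, mem_centralizer_singleton_iff, mem_centralizer_singleton_iff]
    exact ⟨fun h' => congrArg Subtype.val h', fun h' => Subtype.ext h'⟩
  rw [idx, e]
  exact relIndex_dvd_index_right

/-- The subgroup generated by the 2-elements again has a disconnected graph, with real class sizes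
odd or powers of 2. -/
theorem twoGen_structure {P : ℕ → Prop} (hP2 : P 2) (hS : Split G P) {t : G} (ht : Invol t)
    (hA : TypeA P t) (hsyl : ¬ ∀ S : Sylow 2 G, (S : Subgroup G).Normal) :
    (∃ y g : ↥(twoGen G), g * y * g⁻¹ = y⁻¹ ∧ ∃ q : ℕ, q.Prime ∧ q ∣ idx y ∧ P q) ∧
    (∃ y g : ↥(twoGen G), g * y * g⁻¹ = y⁻¹ ∧ ∃ q : ℕ, q.Prime ∧ q ∣ idx y ∧ ¬ P q) ∧
    Split ↥(twoGen G) P ∧
    ∀ y g : ↥(twoGen G), g * y * g⁻¹ = y⁻¹ → Odd (idx y) ∨ ∃ j : ℕ, idx y = 2 ^ j := by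
  haveI : Fact (Nat.Prime 2) := ⟨Nat.prime_two⟩
  set K := twoGen G
  have hnr : ¬ RealTwoPart.NoReal G := fun h => hsyl fun S => by
    have hO := CfsgLib.Solvable.Cores.isPGroup_pCore (G := G) 2
    have hnd : ¬ 2 ∣ (Cfsg.pCore 2 G).index := by
      rw [← even_iff_two_dvd]; exact Nat.not_even_iff_odd.2 (RealTwoPart.odd_index_pCore h)
    have e : (S : Subgroup G) = Cfsg.pCore 2 G :=
      (hO.toSylow hnd).is_maximal' S.isPGroup' (CfsgLib.Solvable.Cores.pCore_le_sylow S)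
    rw [e]
    infer_instance
  simp only [RealTwoPart.NoReal, not_forall] at hnr
  obtain ⟨x, g, ho, hg, hx⟩ := hnr
  obtain ⟨m, k, ⟨j, hj⟩, hmk⟩ := exists_two_part g
  have hg2 : Commute (g ^ 2) x := by
    refine mul_inv_eq_iff_eq_mul.1 ?_
    rw [pow_two, show g * g * x * (g * g)⁻¹ = g * (g * x * g⁻¹) * g⁻¹ by group, hg]
    exact conj_twice hg
  have hgm : g ^ m * x * (g ^ m)⁻¹ = x⁻¹ := by
    rw [hj, pow_succ', pow_mul, show g * (g ^ 2) ^ j * x * (g * (g ^ 2) ^ j)⁻¹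
      = g * ((g ^ 2) ^ j * x * ((g ^ 2) ^ j)⁻¹) * g⁻¹ by group,
      (hg2.pow_left j).eq, mul_inv_cancel_right, hg]
  have hgK : g ^ m ∈ K := mem_twoGen hmk
  have hxK : x ∈ K := by
    obtain ⟨i, hi⟩ := ho
    have h1 : x ^ (i + 1) * g ^ m * (x ^ (i + 1))⁻¹ * (g ^ m)⁻¹ ∈ K :=
      mul_mem ((inferInstance : K.Normal).conj_mem _ hgK _) (inv_mem hgK)
    rwa [show x ^ (i + 1) * g ^ m * (x ^ (i + 1))⁻¹ * (g ^ m)⁻¹
        = x ^ (i + 1) * (g ^ m * (x ^ (i + 1))⁻¹ * (g ^ m)⁻¹) by group,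
      conj_twice (real_pow hgm (i + 1)), ← pow_add, show i + 1 + (i + 1) = 2 * i + 1 + 1 by ring,
      ← hi, pow_succ, pow_orderOf_eq_one, one_mul] at h1
  have htK : t ∈ K := mem_twoGen (k := 1) (by rw [pow_one, pow_two, ht.1])
  let tK : ↥K := ⟨t, htK⟩
  have hsplit : Split ↥K P := fun y h hy =>
    (hS (y : G) h (congrArg Subtype.val hy)).imp
      (fun H q hq hqd => H q hq (hqd.trans (idx_subgroup_dvd K y)))
      (fun H q hq hqd => H q hq (hqd.trans (idx_subgroup_dvd K y)))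
  have htI : Invol tK := ⟨Subtype.ext ht.1, fun e => ht.2 (congrArg Subtype.val e)⟩
  have htA : TypeA P tK := by
    refine ⟨fun e => hx ?_, fun q hq hqd => hA.2 q hq (hqd.trans (idx_subgroup_dvd K tK))⟩
    refine typeA_comm hP2 hS ht.1 hA ho hg ?_
    have h1 := congrArg Subtype.val (comm_of_idx_eq_one e (⟨x, hxK⟩ : ↥K))
    exact mul_inv_eq_iff_eq_mul.1 h1
  have hxr : (⟨g ^ m, hgK⟩ : ↥K) * ⟨x, hxK⟩ * (⟨g ^ m, hgK⟩ : ↥K)⁻¹ = (⟨x, hxK⟩ : ↥K)⁻¹ :=
    Subtype.ext hgm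
  refine ⟨⟨_, _, hxr, 2, Nat.prime_two, ?_, hP2⟩, ?_, hsplit, fun y h hy =>
    odd_or_two_pow hP2 hsplit twoGen_generated htI htA hy⟩
  · refine two_dvd_idx hxr fun e => hx (eq_one_of_odd_sq ho ?_)
    exact congrArg Subtype.val e
  · obtain ⟨q, hq, hqd⟩ := Nat.exists_prime_and_dvd htA.1
    refine ⟨tK, 1, ?_, q, hq, hqd, htA.2 q hq hqd⟩
    rw [one_mul, inv_one, mul_one, htI.inv]

end CfsgLib.FTApps.RealGraph
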