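import Cfsg.Agent.Lib.FTApps.RealGraph.Main
import Cfsg.Agent.Lib.FTApps.RealGraph.Complement

/-!
In a group generated by 2-elements with disconnected real class size graph some involution of odd class
size has a 2-group as centralizer, so that real class sizes are odd or powers of 2.
-/

set_option autoImplicit false
set_option linter.style.haveILetI false
set_option linter.unusedSectionVars false

namespace CfsgLib.FTApps.RealGraph

open Subgroup

variable {G : Type*} [Group G] [Finite G] {P : ℕ → Prop}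

theorem relIndex_sup_normal {H K : Subgroup G} [K.Normal] :
    H.relIndex (H ⊔ K) = H.relIndex K := by
  have h1 := CfsgLib.Coprime.card_mul_relIndex' (le_sup_left : H ≤ H ⊔ K)
  have h2 := CfsgLib.Coprime.card_mul_relIndex' (inf_le_right : H ⊓ K ≤ K)
  rw [inf_relIndex_right] at h2
  have h3 := CfsgLib.Solvable.Basic.card_sup_mul K H
  rw [sup_comm] at h1 h3
  rw [inf_comm] at h2
  refine Nat.eq_of_mul_eq_mul_left (Nat.card_pos (α := H)) ?_
  refine Nat.eq_of_mul_eq_mul_left (Nat.card_pos (α := ↥(K ⊓ H))) ?_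
  rw [sup_comm]
  calc Nat.card ↥(K ⊓ H) * (Nat.card H * H.relIndex (K ⊔ H))
      = Nat.card ↥(K ⊔ H) * Nat.card ↥(K ⊓ H) := by rw [h1, mul_comm]
    _ = Nat.card K * Nat.card H := h3.trans (mul_comm _ _)
    _ = Nat.card ↥(K ⊓ H) * (Nat.card H * H.relIndex K) := by rw [← h2]; ring

theorem relIndex_dvd_index_right {H K : Subgroup G} [K.Normal] : H.relIndex K ∣ H.index :=
  relIndex_sup_normal (H := H) (K := K) ▸ relIndex_dvd_index_of_le le_sup_left

/-- A normal subgroup of odd index contains the 2-elements. -/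
theorem mem_of_odd_index {N : Subgroup G} [N.Normal] (h : Odd N.index) {g : G} {k : ℕ}
    (hg : g ^ 2 ^ k = 1) : g ∈ N := by
  rw [← QuotientGroup.eq_one_iff, ← orderOf_eq_one_iff]
  refine Nat.eq_one_of_dvd_coprimes ((Nat.coprime_two_left.2 h).pow_left k) ?_ ?_
  · exact orderOf_dvd_of_pow_eq_one (by rw [← QuotientGroup.mk_pow, hg]; rfl)
  · rw [index_eq_card]; exact orderOf_dvd_natCard _

theorem idx_map_dvd {H : Type*} [Group H] (f : G →* H) (hf : Function.Surjective f) (y : G) :
    idx (f y) ∣ idx y := by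
  refine dvd_trans (index_dvd_of_le ?_) (index_map_dvd _ hf)
  rintro _ ⟨c, hc, rfl⟩
  rw [mem_centralizer_singleton_iff, ← map_mul, ← map_mul, mem_centralizer_singleton_iff.1 hc]

/-- When `t` is outside the 2-core, its centralizer is a 2-group. -/
theorem isPGroup_centralizer_of_not_mem (hP2 : P 2) (hS : Split G P)
    (hgen : closure {g : G | ∃ k : ℕ, g ^ 2 ^ k = 1} = ⊤) {t : G} (ht : Invol t) (hA : TypeA P t)
    (htO : t ∉ Cfsg.pCore 2 G) : IsPGroup 2 ↥(centralizer ({t} : Set G)) := by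
  classical
  haveI : Fact (Nat.Prime 2) := ⟨Nat.prime_two⟩
  obtain ⟨x, hx1, hxo, htx⟩ := CfsgLib.Involution.BaerSuzuki.exists_inverted_odd t ht.orderOf
    fun M hM hM2 htM => htO (by haveI := hM; exact CfsgLib.Solvable.Cores.le_pCore hM2 htM)
  set N := Cfsg.pPrimeCore 2 G with hN
  have hNo : Odd (Nat.card N) :=
    Nat.coprime_two_right.1 (CfsgLib.Solvable.Cores.coprime_card_pPrimeCore 2)
  have hxN : x ∈ N := by
    obtain ⟨A, hAn, hAc, hA'⟩ := exists_abelian_normal hP2 hS ht hA
    let B : Subgroup G :=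
      { carrier := {a | a ∈ A ∧ Odd (orderOf a)}
        one_mem' := ⟨one_mem A, by rw [orderOf_one]; exact odd_one⟩
        mul_mem' := fun {a b} ha hb => ⟨mul_mem ha.1 hb.1, (ha.2.mul hb.2).of_dvd_nat
          (Commute.orderOf_mul_dvd_mul_orderOf (hAc a ha.1 b hb.1))⟩
        inv_mem' := fun {a} ha => ⟨inv_mem ha.1, by rw [orderOf_inv]; exact ha.2⟩ }
    haveI : B.Normal := ⟨fun a ha g => ⟨hAn.conj_mem a ha.1 g, by
      have h1 := orderOf_injective (MulAut.conj g).toMonoidHom (MulAut.conj g).injective a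
      simp only [MulEquiv.coe_toMonoidHom, MulAut.conj_apply] at h1
      rw [h1]; exact ha.2⟩⟩
    have hB : Odd (Nat.card B) := by
      by_contra hc
      obtain ⟨a, haB, ha⟩ := exists_invol_of_even hc
      exact ha.2 (eq_one_of_odd_sq haB.2 ha.1)
    exact CfsgLib.Solvable.Cores.le_pPrimeCore (Nat.coprime_two_right.2 hB)
      (⟨hA' x hxo htx, hxo⟩ : x ∈ B)
  have hall : ∀ e : G, Odd (orderOf e) → t * e * t⁻¹ = e⁻¹ → ∀ g : G,
      (g * t * g⁻¹) * e * (g * t * g⁻¹)⁻¹ = e⁻¹ := by
    intro e heo hte g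
    by_cases he : e = 1
    · rw [he, inv_one, mul_one, mul_inv_cancel]
    obtain ⟨c, hce, hct⟩ := factor_conj (hA.coprime (typeB_of_real hP2 hS heo he hte)).symm g
    rw [← hct]
    calc c * t * c⁻¹ * e * (c * t * c⁻¹)⁻¹ = c * (t * (c⁻¹ * e * c) * t⁻¹) * c⁻¹ := by group
      _ = c * (t * e * t⁻¹) * c⁻¹ := by
        rw [show c⁻¹ * e * c = e from by nth_rw 1 [← hce]; group]
      _ = e⁻¹ := by rw [hte, ← conj_inv, hce]
  set f := QuotientGroup.mk' N with hf
  have hfs : Function.Surjective f := QuotientGroup.mk'_surjective N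
  have hcentral : ∀ g : G, f (g * t * g⁻¹) = f t := by
    by_cases hcent : idx (f t) = 1
    · intro g; rw [map_mul, map_mul, map_inv, comm_of_idx_eq_one hcent]
    have htA : TypeA P (f t) := ⟨hcent, fun q hq hqd => hA.2 q hq (hqd.trans (idx_map_dvd f hfs t))⟩
    have htI : Invol (f t) := ⟨by rw [← map_mul, ht.1, map_one],
      fun e => hcent (idx_eq_one_of_comm fun g => by rw [e, mul_one, mul_inv_cancel])⟩
    have hS' := split_quotient hS N hNo
    have hO : ∀ M : Subgroup (G ⧸ N), M.Normal → Odd (Nat.card M) → M = ⊥ := by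
      intro M hM hMo
      haveI := hM
      haveI : (M.comap f).Normal := Normal.comap inferInstance _
      have hle : M.comap f ≤ N := by
        refine CfsgLib.Solvable.Cores.le_pPrimeCore (Nat.coprime_two_right.2 ?_)
        have h1 := CfsgLib.Coprime.card_mul_relIndex'
          (show N ≤ M.comap f from fun n hn => mem_comap.2 (by
            rw [show f n = 1 from (QuotientGroup.eq_one_iff n).2 hn]; exact one_mem M))
        rw [← h1]
        refine hNo.mul ?_
        have e : (⊥ : Subgroup (G ⧸ N)).comap f = N := by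
          rw [MonoidHom.comap_bot, QuotientGroup.ker_mk']
        have e2 : N.relIndex (M.comap f) = Nat.card M := by
          calc N.relIndex (M.comap f) = ((⊥ : Subgroup (G ⧸ N)).comap f).relIndex (M.comap f) :=
                (congrArg (fun Z : Subgroup G => Z.relIndex (M.comap f)) e).symm
            _ = Nat.card M := by
              rw [relIndex_comap, map_comap_eq_self_of_surjective hfs, relIndex_bot_left]
        rw [e2]
        exact hMo
      rw [← map_comap_eq_self_of_surjective hfs M, eq_bot_iff, map_le_iff_le_comap,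
        MonoidHom.comap_bot, QuotientGroup.ker_mk']
      exact hle
    obtain ⟨hcomm, hsq, htype⟩ :=
      closure_data hP2 hS' htI htA (mem_pCore_of_core_free hP2 hS' htI htA hO)
    intro g
    have hm1 : f t ∈ normalClosure ({f t} : Set (G ⧸ N)) := subset_normalClosure rfl
    have hm2 : f g * f t * (f g)⁻¹ ∈ normalClosure ({f t} : Set (G ⧸ N)) :=
      normalClosure_normal.conj_mem _ hm1 _
    set w := t * (g * t * g⁻¹) with hw
    have hfw : f w = f t * (f g * f t * (f g)⁻¹) := by rw [hw, map_mul, map_mul, map_mul, map_inv]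
    have hwV : f w ∈ normalClosure ({f t} : Set (G ⧸ N)) := hfw ▸ mul_mem hm1 hm2
    have htw : t * w * t⁻¹ = w⁻¹ := by
      rw [hw, mul_inv_rev, (ht.conj g).inv, ht.inv, ← mul_assoc t t, ht.1, one_mul]
    have hxw : Commute x w := by
      refine (mul_inv_eq_iff_eq_mul.1 ?_ : w * x = x * w).symm
      calc w * x * w⁻¹ = t * (g * t * g⁻¹ * x * (g * t * g⁻¹)⁻¹) * t⁻¹ := by rw [hw]; group
        _ = x := by rw [hall x hxo htx g]; exact conj_twice htx
    obtain ⟨m, k, ⟨j, hj⟩, hwk⟩ := exists_two_part w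
    set u := w ^ m with hu
    have hfu : f u = f w := by
      rw [hu, map_pow, hj, pow_succ, pow_mul, pow_two, hsq _ hwV, one_pow, one_mul]
    have hu2 : u * u = 1 := by
      have h1 : u * u ∈ N := (QuotientGroup.eq_one_iff _).1 (by
        show f (u * u) = 1
        rw [map_mul, hfu, hsq _ hwV])
      refine orderOf_eq_one_iff.1 (Nat.eq_one_of_dvd_coprimes
        ((Nat.coprime_two_left.2 hNo).pow_left k) (orderOf_dvd_of_pow_eq_one ?_)
        (by rw [← Subgroup.orderOf_mk _ h1]; exact orderOf_dvd_natCard _))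
      rw [← pow_two, ← pow_mul, mul_comm, pow_mul, hwk, one_pow]
    have hnA : ¬ TypeA P u := fun h => hx1
      (typeA_comm hP2 hS hu2 h hxo htx (hxw.pow_right m))
    have hz : f w ∈ center (G ⧸ N) := by
      by_contra hzc
      obtain ⟨hne, hnP⟩ := htype _ hwV hzc
      obtain ⟨q, hq, hqd⟩ := Nat.exists_prime_and_dvd hne
      rw [← hfu] at hqd
      have hq' := hqd.trans (idx_map_dvd f hfs u)
      rcases hS u t (real_pow htw m) with h | h
      · exact hnP q hq (hfu ▸ hqd) (h q hq hq')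
      · exact hnA ⟨fun e => by rw [e] at hq'; exact hq.one_lt.ne' (Nat.eq_one_of_dvd_one hq'), h⟩
    have h1 : f w = 1 := eq_of_conj_central (htA.odd hP2) hz (hsq _ hwV) (g := f g) (by
      rw [hfw, hcomm _ hm1 _ hm2]
      simp only [mul_assoc, htI.1, mul_one])
    rw [hfw] at h1
    rw [map_mul, map_mul, map_inv, eq_inv_of_mul_eq_one_right h1, htI.inv]
  -- the products with conjugates of `t` generate an abelian complement
  set e : G → G := fun g => g * t * g⁻¹ * t with he
  have heN : ∀ g, e g ∈ N := fun g => (QuotientGroup.eq_one_iff _).1 (by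
    show f (g * t * g⁻¹ * t) = 1
    rw [map_mul f (g * t * g⁻¹), hcentral, ← map_mul, ht.1, map_one])
  have heo : ∀ g, Odd (orderOf (e g)) := fun g => hNo.of_dvd_nat (by
    rw [← Subgroup.orderOf_mk _ (heN g)]; exact orderOf_dvd_natCard _)
  have hte : ∀ g, t * e g * t⁻¹ = (e g)⁻¹ := fun g => by
    simp only [he]
    rw [mul_inv_rev, (ht.conj g).inv, ht.inv]
    simp only [mul_assoc, ht.1, mul_one]
  have hec : ∀ g g', Commute (e g) (e g') := fun g g' => by
    refine (mul_inv_eq_iff_eq_mul.1 ?_ : e g * e g' = e g' * e g)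
    calc e g * e g' * (e g)⁻¹ = g * t * g⁻¹ * (t * e g' * t⁻¹) * (g * t * g⁻¹)⁻¹ := by
          simp only [he]; group
      _ = e g' := by rw [hte g']; exact conj_twice (hall _ (heo g') (hte g') g)
  set A := closure (Set.range e) with hA'
  have hAc : ∀ a ∈ A, ∀ b ∈ A, Commute a b := by
    have h1 : A ≤ centralizer (Set.range e) := (closure_le _).2 (by
      rintro _ ⟨g, rfl⟩
      exact mem_centralizer_iff.2 (by rintro _ ⟨g', rfl⟩; exact (hec g' g).eq))
    intro a ha b hb
    have h2 : A ≤ centralizer ({a} : Set G) := (closure_le _).2 (by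
      rintro z hz
      exact mem_centralizer_singleton_iff.2 (mem_centralizer_iff.1 (h1 ha) z hz))
    exact (mem_centralizer_singleton_iff.1 (h2 hb)).symm
  have htA : ∀ a ∈ A, t * a * t⁻¹ = a⁻¹ := by
    intro a ha
    induction ha using closure_induction with
    | mem z hz => obtain ⟨g, rfl⟩ := hz; exact hte g
    | one => simp
    | mul y z hy hz hy' hz' =>
      rw [show t * (y * z) * t⁻¹ = t * y * t⁻¹ * (t * z * t⁻¹) by group, hy', hz', mul_inv_rev]
      exact (hAc y hy z hz).inv_inv.eq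
    | inv y _ hy' => rw [inv_inv]; exact conj_twice hy'
  have hAN : A ≤ N := (closure_le _).2 (by rintro _ ⟨g, rfl⟩; exact heN g)
  have hAC : ∀ a ∈ A, Commute a t → a = 1 := fun a ha hat => by
    have h1 := htA a ha
    rw [hat.symm.eq, mul_inv_cancel_right] at h1
    refine eq_one_of_odd_sq (hNo.of_dvd_nat ?_) (eq_inv_iff_mul_eq_one.1 h1)
    rw [← Subgroup.orderOf_mk _ (hAN ha)]; exact orderOf_dvd_natCard _
  haveI : A.Normal := ⟨fun z hz h => by
    have hle : A ≤ A.comap (MulAut.conj h).toMonoidHom := (closure_le _).2 (by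
      rintro _ ⟨g, rfl⟩
      show h * e g * h⁻¹ ∈ A
      have e3 : h * e g * h⁻¹ = e (h * g) * (e h)⁻¹ := by
        simp only [he]
        rw [mul_inv_rev (h * t * h⁻¹) t, (ht.conj h).inv, ht.inv]
        calc h * (g * t * g⁻¹ * t) * h⁻¹ = h * g * t * (h * g)⁻¹ * 1 * (h * t * h⁻¹) := by group
          _ = h * g * t * (h * g)⁻¹ * t * (t * (h * t * h⁻¹)) := by rw [← ht.1]; group
      rw [e3]
      exact mul_mem (subset_closure ⟨_, rfl⟩) (inv_mem (subset_closure ⟨_, rfl⟩)))
    exact hle hz⟩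
  obtain ⟨S, hS2, hSi, hSC, hCS⟩ := exists_syl hP2 hS ht.1 hA
  have hAC' : ∀ g : G, ∃ a ∈ A, ∃ c ∈ centralizer ({t} : Set G), g = a * c := by
    intro g
    obtain ⟨s, hs, h1, -, -⟩ := exists_swap ht (ht.conj g) (heo g)
    refine ⟨s, zpowers_le.2 (subset_closure (Set.mem_range_self g) : e g ∈ A) hs, s⁻¹ * g,
      mem_centralizer_singleton_iff.2 ?_, (mul_inv_cancel_left s g).symm⟩
    calc s⁻¹ * g * t = s⁻¹ * (g * t * g⁻¹) * g := by group
      _ = s⁻¹ * (s * t * s⁻¹) * g := by rw [h1]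
      _ = t * (s⁻¹ * g) := by group
  haveI hASn : (A ⊔ S).Normal := ⟨fun z hz g => by
    obtain ⟨a, ha, c, hc, rfl⟩ := hAC' g
    have hle : A ⊔ S ≤ (A ⊔ S).comap (MulAut.conj (a * c)).toMonoidHom := by
      refine sup_le (fun y hy => mem_sup_left (Normal.conj_mem inferInstance y hy _)) fun y hy => ?_
      show a * c * y * (a * c)⁻¹ ∈ A ⊔ S
      rw [show a * c * y * (a * c)⁻¹ = a * (c * y * c⁻¹) * a⁻¹ by group]
      exact mul_mem (mul_mem (mem_sup_left ha)
        (mem_sup_right ((mem_normalizer_iff.1 (hCS hc) y).1 hy))) (inv_mem (mem_sup_left ha))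
    exact hle hz⟩
  have htop : A ⊔ S = ⊤ := by
    rw [eq_top_iff, ← hgen, closure_le]
    rintro g ⟨k, hk⟩
    exact mem_of_odd_index (hSi.of_dvd_nat (index_dvd_of_le le_sup_right)) hk
  refine hS2.to_le fun c hc => ?_
  have h : c ∈ ((A ⊔ S : Subgroup G) : Set G) := by rw [htop]; trivial
  rw [normal_mul] at h
  obtain ⟨a, ha, s, hs, rfl⟩ := h
  rw [show a = 1 from hAC a ha (mem_centralizer_singleton_iff.1
    ((mul_mem_cancel_right (hSC hs)).1 hc))]
  show 1 * s ∈ S
  rw [one_mul]
  exact hs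

/-- A normal 2-complement modulo the 2-core makes the centralizer of an involution of type A a
2-group. -/
theorem isPGroup_centralizer_of_complement (hP2 : P 2) (hS : Split G P)
    (hgen : closure {g : G | ∃ k : ℕ, g ^ 2 ^ k = 1} = ⊤) {v : G} (hv : v * v = 1)
    (hA : TypeA P v) (X : Subgroup G) [X.Normal] (hX : Odd ((Cfsg.pCore 2 G).relIndex X))
    (hXq : Odd (Cfsg.pCore 2 (G ⧸ X)).index) : IsPGroup 2 ↥(centralizer ({v} : Set G)) := by
  classical
  haveI : Fact (Nat.Prime 2) := ⟨Nat.prime_two⟩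
  obtain ⟨S, hS2, hSi, hSC, hCS⟩ := exists_syl hP2 hS hv hA
  set O := Cfsg.pCore 2 G with hO
  have hO2 : IsPGroup 2 O := CfsgLib.Solvable.Cores.isPGroup_pCore 2
  set π := QuotientGroup.mk' O with hπ
  have hπs : Function.Surjective π := QuotientGroup.mk'_surjective O
  set C := centralizer ({v} : Set G) with hC
  haveI : (X.map π).Normal := Normal.map inferInstance π hπs
  have hXo : Odd (Nat.card ↥(X.map π)) := by
    rw [← relIndex_ker, QuotientGroup.ker_mk']; exact hX
  have hXS : X ⊔ S = ⊤ := by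
    rw [← index_eq_one]
    have h2 : IsPGroup 2 (G ⧸ X) :=
      isPGroup_of_generated (generated_map _ (QuotientGroup.mk'_surjective X) hgen) hXq
    obtain ⟨n, hn⟩ := h2.exists_card_eq
    refine Nat.eq_one_of_dvd_coprimes ((Nat.coprime_two_left.2 hSi).pow_left n) ?_
      (index_dvd_of_le le_sup_right)
    rw [← hn, ← index_eq_card]; exact index_dvd_of_le le_sup_left
  have hXS' : X.map π ⊔ S.map π = ⊤ := by
    rw [← Subgroup.map_sup, hXS, map_top_of_surjective _ hπs]
  have hbot : ∀ z ∈ X.map π, z ∈ S.map π → z = 1 := fun z hz hz' =>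
    RealTwoPart.eq_one_of_mem_two (hS2.map π) hz' (hXo.of_dvd_nat (by
      rw [← Subgroup.orderOf_mk z hz]; exact orderOf_dvd_natCard _))
  have hS' : X.map π ⊓ C.map π = ⊥ := by
    refine complement_trick (X.map π) (S.map π) _ hXo (generated_map π hπs hgen) (hS2.map π) hXS'
      inf_le_left ?_ ?_
    · rintro s ⟨hsX, hsC⟩ p hp
      refine commutatorElement_eq_one_iff_mul_comm.1 (hbot _ ?_ ?_)
      · rw [commutatorElement_def, show s * p * s⁻¹ * p⁻¹ = s * (p * s⁻¹ * p⁻¹) by group]
        exact mul_mem hsX (Normal.conj_mem inferInstance _ (inv_mem hsX) p)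
      · rw [commutatorElement_def]
        refine mul_mem ?_ (inv_mem hp)
        obtain ⟨c, hc, rfl⟩ := hsC
        obtain ⟨q, hq, rfl⟩ := hp
        rw [← map_inv, ← map_mul, ← map_mul]
        exact mem_map_of_mem π ((mem_normalizer_iff.1 (hCS hc) q).1 hq)
    · intro y g hy hg k hk
      obtain ⟨u, h, rfl, hu, hh⟩ := lift_two O hO2 hy hg
      by_cases hu1 : u = 1
      · exact ⟨1, one_mem _, k, hk, by rw [hu1]; exact Commute.one_right k, (one_mul k).symm⟩
      have hcop : ((C.map π).subgroupOf (X.map π)).index.Coprime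
          ((centralizer ({π u} : Set (G ⧸ O))).subgroupOf (X.map π)).index := by
        refine Nat.Coprime.coprime_dvd_left
          (relIndex_dvd_index_right.trans (index_map_dvd _ hπs)) (Nat.Coprime.coprime_dvd_right
          (relIndex_dvd_index_right.trans (idx_map_dvd π hπs u)) ?_)
        exact hA.coprime (typeB_of_real hP2 hS hu hu1 hh)
      obtain ⟨c, hc, d, hd, e⟩ := factor_subgroups hcop ⟨k, hk⟩
      exact ⟨c, ⟨c.2, mem_subgroupOf.1 hc⟩, d, d.2,
        mem_centralizer_singleton_iff.1 (mem_subgroupOf.1 hd), congrArg Subtype.val e⟩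
  have hle : C ≤ (S.map π).comap π := fun c hc => mem_comap.2 (by
    have h : π c ∈ ((X.map π ⊔ S.map π : Subgroup (G ⧸ O)) : Set (G ⧸ O)) := by
      rw [hXS']; trivial
    rw [normal_mul] at h
    obtain ⟨x, hx, p, hp, e⟩ := h
    have hxC : x ∈ C.map π := by
      rw [eq_mul_inv_of_mul_eq e]
      exact mul_mem (mem_map_of_mem π hc) (inv_mem (map_mono hSC hp))
    have hx1 : x = 1 := mem_bot.1 (hS'.le ⟨hx, hxC⟩)
    rw [← e, hx1]
    show 1 * p ∈ S.map π
    rw [one_mul]
    exact hp)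
  exact ((hS2.map π).comap_of_ker_isPGroup π (by rw [QuotientGroup.ker_mk']; exact hO2)).to_le hle

/-- In a group generated by 2-elements real class sizes are odd or powers of 2. -/
theorem odd_or_two_pow (hP2 : P 2) (hS : Split G P)
    (hgen : closure {g : G | ∃ k : ℕ, g ^ 2 ^ k = 1} = ⊤) {t : G} (ht : Invol t) (hA : TypeA P t)
    {y g : G} (hy : g * y * g⁻¹ = y⁻¹) : Odd (idx y) ∨ ∃ j : ℕ, idx y = 2 ^ j := by
  by_cases hy1 : idx y = 1
  · exact Or.inr ⟨0, by rw [hy1, pow_zero]⟩
  rcases hS y g hy with h | h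
  swap
  · exact Or.inl (TypeA.odd hP2 ⟨hy1, h⟩)
  obtain ⟨v, hvA, hC⟩ : ∃ v : G, TypeA P v ∧ IsPGroup 2 ↥(centralizer ({v} : Set G)) := by
    by_cases htO : t ∈ Cfsg.pCore 2 G
    · obtain ⟨v, -, hv, hvA, -, X, hXn, hXo, hXi⟩ := exists_section hP2 hS ht hA htO
      haveI := hXn
      exact ⟨v, hvA, isPGroup_centralizer_of_complement hP2 hS hgen hv hvA X hXo hXi⟩
    · exact ⟨t, hA, isPGroup_centralizer_of_not_mem hP2 hS hgen ht hA htO⟩
  haveI : Fact (Nat.Prime 2) := ⟨Nat.prime_two⟩
  obtain ⟨a, ha⟩ := hC.exists_card_eq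
  obtain ⟨j, -, hj⟩ := (Nat.dvd_prime_pow Nat.prime_two).1 (ha ▸
    (relIndex_eq_of_coprime (C := centralizer ({v} : Set G)) (D := centralizer ({y} : Set G))
      (hvA.coprime ⟨hy1, h⟩) ▸ relIndex_dvd_card _ _))
  exact Or.inr ⟨j, hj⟩

end CfsgLib.FTApps.RealGraph
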